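import Cfsg.Agent.SubElusive.Main

/-!
The case distinctions for invariant subspaces of elements of prime order.
-/

set_option autoImplicit false
set_option linter.style.haveILetI false

namespace CfsgLib.SubElusive

variable {F : Type*} [Field F] [Fintype F] {p n r : ℕ} [Fact p.Prime] [CharP F p] [hr : Fact r.Prime]

theorem choice_pair {n m i e k : ℕ} (h : e + i * k = n) (hm : 2 * m ≤ n) (hc : 2 * (m % i) ≤ n % i) :
    ∃ a b a' b', a + i * b = m ∧ a' + i * b' = m ∧ a + a' ≤ e ∧ b + b' ≤ k := by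
  have hd := Nat.mod_add_div m i
  have hen : n % i ≤ e := by rw [← h, Nat.add_mul_mod_self_left]; exact Nat.mod_le _ _
  rcases Nat.lt_or_ge k (2 * (m / i)) with hk | hk
  · set b := min (m / i) k
    have h1 : i * b ≤ i * (m / i) := Nat.mul_le_mul_left _ (min_le_left _ _)
    have h2 : i * (k - b) ≤ i * (m / i) := Nat.mul_le_mul_left _ (by omega)
    have h3 : i * b + i * (k - b) = i * k := by rw [← mul_add, Nat.add_sub_cancel' (min_le_right _ _)]
    exact ⟨m - i * b, b, m - i * (k - b), k - b, by omega, by omega, by omega, by omega⟩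
  · exact ⟨m % i, m / i, m % i, m / i, hd, hd, by omega, by omega⟩

theorem choice_one {n m i e k : ℕ} (h : e + i * k = n) (hm : m ≤ n) (hc : m % i ≤ n % i) :
    ∃ a b a' b', a + i * b = m ∧ a' + i * b' = 0 ∧ a + a' ≤ e ∧ b + b' ≤ k := by
  have hd := Nat.mod_add_div m i
  have hen : n % i ≤ e := by rw [← h, Nat.add_mul_mod_self_left]; exact Nat.mod_le _ _
  rcases Nat.lt_or_ge k (m / i) with hk | hk
  · have h1 : i * k ≤ i * (m / i) := Nat.mul_le_mul_left _ hk.le
    exact ⟨m - i * k, k, 0, 0, by omega, by omega, by omega, by omega⟩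
  · exact ⟨m % i, m / i, 0, 0, hd, by omega, by omega, by omega⟩

theorem order_gt_one_power (hn : ¬ r ∣ Fintype.card F - 1) (c : F) : ∃ d : F, d ^ r = c := by
  classical
  by_cases hc : c = 0
  · exact ⟨0, by rw [hc, zero_pow hr.out.ne_zero]⟩
  have hcop : (Nat.card Fˣ).Coprime r := by
    rw [Nat.card_units, Nat.card_eq_fintype_card]
    exact (hr.out.coprime_iff_not_dvd.mpr hn).symm
  obtain ⟨d, hd⟩ := (powCoprime hcop).surjective (Units.mk0 c hc)
  exact ⟨d, by simpa using congrArg Units.val hd⟩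

theorem scalar_data {M : Matrix (Fin n) (Fin n) F} (hM : M.det = 1) (hn : 0 < n) {c : F}
    (h : M ^ r = c • (1 : Matrix (Fin n) (Fin n) F)) : c ≠ 0 := by
  haveI : Nonempty (Fin n) := ⟨⟨0, hn⟩⟩
  intro h0
  rw [h0, zero_smul] at h
  have := congrArg Matrix.det h
  rw [Matrix.det_pow, hM, one_pow, Matrix.det_zero] at this
  exact one_ne_zero this

theorem no_nonsplit_iff (hrp : r ≠ p) (hrq : r ∣ Fintype.card F - 1) (hn : 0 < n) :
    (¬ ∃ c : F, (∀ d : F, d ^ r ≠ c) ∧ r ∣ n ∧ ((-1) ^ (r + 1) * c) ^ (n / r) = 1) ↔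
      (padicValNat r n ≤ padicValNat r (Fintype.card F - 1) ∧ (r = 2 → Even n → Fintype.card F % 4 = 1)) := by
  classical
  have hneg : ∀ c : F, (r = 2 → Fintype.card F % 4 = 1) → (∀ d : F, d ^ r ≠ c) → ∀ d : F, d ^ r ≠ (-1) ^ (r + 1) * c := by
    intro c h4 hc d hd
    rcases hr.out.eq_two_or_odd' with h2 | ho
    · obtain ⟨s, hs⟩ := (FiniteField.isSquare_neg_one_iff (F := F)).mpr (by have := h4 h2; omega)
      subst h2
      refine hc (s * d) ?_
      rw [mul_pow, hd, pow_two, ← hs]
      ring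
    · rw [Even.neg_one_pow (by obtain ⟨j, rfl⟩ := ho; exact ⟨j + 1, by ring⟩), one_mul] at hd
      exact hc d hd
  constructor
  · intro h
    have hv : (r = 2 → Even n → Fintype.card F % 4 = 1) := by
      intro h2 he
      by_contra h4
      subst h2
      refine h ⟨-1, fun d hd => ?_, even_iff_two_dvd.mp he, by norm_num⟩
      obtain ⟨f, hp, hf⟩ := FiniteField.card F p
      have hodd : Fintype.card F % 2 = 1 := by
        rw [hf, Nat.pow_mod, (hp.odd_of_ne_two (Ne.symm hrp) |> Nat.odd_iff.mp), one_pow, Nat.one_mod]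
      exact (FiniteField.isSquare_neg_one_iff (F := F)).not.mpr (by omega) ⟨d, by rw [← hd]; ring⟩
    refine ⟨?_, hv⟩
    by_contra hlt
    push Not at hlt
    set v := padicValNat r (Fintype.card F - 1)
    have hrn : r ^ (v + 1) ∣ n := (pow_dvd_pow r hlt).trans pow_padicValNat_dvd
    have hrn1 : r ∣ n := (dvd_pow_self r (Nat.succ_ne_zero v)).trans hrn
    obtain ⟨u, hu⟩ := TorusSylow.exists_orderOf_of_dvd (H := Fˣ) (m := r ^ v)
      (by rw [Nat.card_units, Nat.card_eq_fintype_card]; exact pow_padicValNat_dvd)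
    have hun : ∀ d : F, d ^ r ≠ (u : F) := by
      intro d hd
      have hd0 : d ≠ 0 := fun h0 => u.ne_zero (by rw [← hd, h0, zero_pow hr.out.ne_zero])
      have h1 : Units.mk0 d hd0 ^ (r ^ (v + 1)) = 1 := by
        rw [pow_succ', pow_mul, show Units.mk0 d hd0 ^ r = u from Units.ext (by simpa using hd), ← hu, pow_orderOf_eq_one]
      have h2 : ¬ Units.mk0 d hd0 ^ (r ^ v) = 1 := by
        intro h2
        have h3 := orderOf_dvd_of_pow_eq_one h2
        have h4 := orderOf_pow_dvd (x := Units.mk0 d hd0) r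
        rw [show Units.mk0 d hd0 ^ r = u from Units.ext (by simpa using hd), hu] at h4
        have h5 : orderOf (Units.mk0 d hd0) = r ^ v := Nat.dvd_antisymm h3 h4
        have h6 : orderOf (Units.mk0 d hd0 ^ r) = orderOf (Units.mk0 d hd0) / r := by
          apply orderOf_pow_of_dvd hr.out.ne_zero
          rw [h5]
          exact dvd_pow_self r (fun hv0 => by
            have : v ≠ 0 := fun h0 => by
              have := dvd_pow_self r (one_ne_zero)
              exact (one_le_padicValNat_of_dvd (by have := Fintype.one_lt_card (α := F); omega) hrq).not_gt (by omega)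
            exact this hv0)
        rw [show Units.mk0 d hd0 ^ r = u from Units.ext (by simpa using hd), hu, h5] at h6
        have : r ^ v / r < r ^ v := Nat.div_lt_self (pow_pos hr.out.pos v) hr.out.one_lt
        omega
      have h3 := orderOf_eq_prime_pow h2 h1
      have h4 := orderOf_dvd_natCard (Units.mk0 d hd0)
      rw [h3, Nat.card_units, Nat.card_eq_fintype_card] at h4
      exact pow_succ_padicValNat_not_dvd (by have := Fintype.one_lt_card (α := F); omega) h4
    refine h ⟨(-1) ^ (r + 1) * (u : F), hneg _ (fun h2 => hv h2 (even_iff_two_dvd.mpr (h2 ▸ hrn1))) hun, hrn1, ?_⟩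
    rw [← mul_assoc, ← mul_pow, neg_one_mul, neg_neg, one_pow, one_mul]
    obtain ⟨w, hw⟩ : r ^ v ∣ n / r := Nat.dvd_div_of_mul_dvd (by rwa [mul_comm, ← pow_succ])
    rw [hw, pow_mul, ← Units.val_pow_eq_pow_val, ← hu, pow_orderOf_eq_one, Units.val_one, one_pow]
  · rintro ⟨hle, h4⟩ ⟨c, hc, hrn, hdet⟩
    have hc' := hneg c (fun h2 => h4 h2 (even_iff_two_dvd.mpr (h2 ▸ hrn))) hc
    set d := (-1) ^ (r + 1) * c
    have hd0 : d ≠ 0 := fun h0 => hc' 0 (by rw [h0, zero_pow hr.out.ne_zero])
    have hN : n / r ≠ 0 := (Nat.div_pos (Nat.le_of_dvd hn hrn) hr.out.pos).ne'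
    have h := not_pow_order hr.out (c := Units.mk0 d hd0)
      (fun w hw => hc' w (by rw [← Units.val_pow_eq_pow_val, hw, Units.val_mk0])) hrq hN (Units.ext (by simpa using hdet))
    rw [padicValNat.div hrn] at h
    have := one_le_padicValNat_of_dvd hn.ne' hrn
    omega

end CfsgLib.SubElusive
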