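import Mathlib

/-!
Numbers of subspaces and of nested pairs of subspaces, up to cancellation.
-/

set_option autoImplicit false
set_option linter.style.haveILetI false

namespace CfsgLib.SubElusive

open Finset

/-- `∏ (q^t - 1)` for `t = 1, …, a`. -/
def gq (q a : ℕ) : ℕ := ∏ t ∈ range a, (q ^ (t + 1) - 1)

/-- The number of independent `k`-tuples. -/
def nq (q n k : ℕ) : ℕ := ∏ j ∈ range k, (q ^ n - q ^ j)

theorem gq_pos {q : ℕ} (hq : 1 < q) (a : ℕ) : 0 < gq q a :=
  Finset.prod_pos fun t _ => Nat.sub_pos_of_lt (Nat.one_lt_pow (by omega) hq)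

theorem nq_mul (q n : ℕ) : ∀ k, k ≤ n → nq q n k * gq q (n - k) = q ^ (∑ j ∈ range k, j) * gq q n := by
  intro k
  induction k with
  | zero => intro _; simp [nq]
  | succ k ih =>
    intro hk
    have h1 := ih (by omega)
    have h2 : gq q (n - k) = gq q (n - (k + 1)) * (q ^ (n - k) - 1) := by
      rw [show n - k = n - (k + 1) + 1 by omega, gq, prod_range_succ, gq]
    have h3 : q ^ n - q ^ k = q ^ k * (q ^ (n - k) - 1) := by
      rw [Nat.mul_sub, mul_one, ← pow_add, Nat.add_sub_cancel' (by omega : k ≤ n)]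
    rw [nq, prod_range_succ, ← nq, sum_range_succ, pow_add, h3]
    calc nq q n k * (q ^ k * (q ^ (n - k) - 1)) * gq q (n - (k + 1))
        = q ^ k * (nq q n k * (gq q (n - (k + 1)) * (q ^ (n - k) - 1))) := by ring
      _ = q ^ k * (nq q n k * gq q (n - k)) := by rw [← h2]
      _ = q ^ k * (q ^ (∑ j ∈ range k, j) * gq q n) := by rw [h1]
      _ = q ^ (∑ j ∈ range k, j) * q ^ k * gq q n := by ring

theorem gq_add (q a b : ℕ) : gq q (a + b) = gq q a * ∏ j ∈ range b, (q ^ (a + j + 1) - 1) :=
  prod_range_add _ a b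

variable {F V : Type*} [Field F] [Fintype F] [AddCommGroup V] [Module F V] [Finite V]

theorem card_indep {k : ℕ} (hk : k ≤ Module.finrank F V) :
    Nat.card {s : Fin k → V // LinearIndependent F s} = nq (Fintype.card F) (Module.finrank F V) k := by
  haveI := Fintype.ofFinite V
  rw [card_linearIndependent hk, nq, Fin.prod_univ_eq_prod_range (fun i => Fintype.card F ^ Module.finrank F V - Fintype.card F ^ i)]

theorem card_sub_mul_nq {n k : ℕ} (hn : Module.finrank F V = n) (hk : k ≤ n) :
    Nat.card {W : Submodule F V // Module.finrank F W = k} * nq (Fintype.card F) k k = nq (Fintype.card F) n k := by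
  classical
  subst hn
  haveI : Fintype {W : Submodule F V // Module.finrank F W = k} := Fintype.ofFinite _
  let sp : {s : Fin k → V // LinearIndependent F s} → {W : Submodule F V // Module.finrank F W = k} := fun s =>
    ⟨Submodule.span F (Set.range s.1), by rw [finrank_span_eq_card s.2, Fintype.card_fin]⟩
  have hfib : ∀ W, Nat.card {s // sp s = W} = nq (Fintype.card F) k k := by
    intro W
    have hc := card_indep (F := F) (V := W.1) (k := k) W.2.ge
    rw [W.2] at hc
    rw [← hc]
    refine Nat.card_congr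
      { toFun := fun s => ⟨fun i => ⟨s.1.1 i, congrArg Subtype.val s.2 ▸ Submodule.subset_span ⟨i, rfl⟩⟩,
          LinearIndependent.of_comp W.1.subtype s.1.2⟩
        invFun := fun t => ⟨⟨fun i => (t.1 i : V), t.2.map' W.1.subtype (Submodule.ker_subtype _)⟩, ?_⟩
        left_inv := fun s => rfl
        right_inv := fun t => rfl }
    refine Subtype.ext (Submodule.eq_of_le_of_finrank_eq (Submodule.span_le.mpr ?_) ?_)
    · rintro _ ⟨i, rfl⟩; exact (t.1 i).2
    · rw [finrank_span_eq_card (R := F) (b := fun i => (t.1 i : V)) (t.2.map' W.1.subtype (Submodule.ker_subtype _)), Fintype.card_fin, W.2]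
  rw [← card_indep hk, ← Nat.card_congr (Equiv.sigmaFiberEquiv sp), Nat.card_sigma]
  simp only [hfib, sum_const, card_univ, smul_eq_mul, Nat.card_eq_fintype_card]

theorem card_sub_mul_gq {n k : ℕ} (hn : Module.finrank F V = n) (hk : k ≤ n) :
    Nat.card {W : Submodule F V // Module.finrank F W = k} * (gq (Fintype.card F) k * gq (Fintype.card F) (n - k)) =
      gq (Fintype.card F) n := by
  have h1 := card_sub_mul_nq (F := F) (V := V) hn hk
  have h2 := nq_mul (Fintype.card F) n k hk
  have h3 := nq_mul (Fintype.card F) k k le_rfl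
  rw [Nat.sub_self, show gq (Fintype.card F) 0 = 1 from prod_range_zero _, mul_one] at h3
  refine mul_left_cancel₀ (pow_ne_zero (∑ j ∈ range k, j) (Fintype.card_ne_zero (α := F))) ?_
  rw [← h2, ← h1, h3]
  ring

omit [Finite V] in
/-- Subspaces below a given one. -/
theorem card_below (W : Submodule F V) (k : ℕ) :
    Nat.card {U : Submodule F V // U ≤ W ∧ Module.finrank F U = k} =
      Nat.card {U : Submodule F W // Module.finrank F U = k} := by
  refine Nat.card_congr
    { toFun := fun U => ⟨Submodule.comap W.subtype U.1, by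
        rw [(Submodule.comapSubtypeEquivOfLe U.2.1).finrank_eq]; exact U.2.2⟩
      invFun := fun U => ⟨U.1.map W.subtype, Submodule.map_subtype_le W U.1, by
        rw [Submodule.finrank_map_subtype_eq]; exact U.2⟩
      left_inv := fun U => Subtype.ext (Submodule.map_comap_subtype W U.1 ▸ inf_eq_right.mpr U.2.1)
      right_inv := fun U => Subtype.ext (Submodule.comap_map_eq_of_injective W.injective_subtype U.1) }

theorem card_pairs_mul {n m : ℕ} (hn : Module.finrank F V = n) (hm : 2 * m ≤ n) :
    Nat.card {P : Submodule F V × Submodule F V // P.1 ≤ P.2 ∧ Module.finrank F P.1 = m ∧ Module.finrank F P.2 = n - m} *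
      (gq (Fintype.card F) m * gq (Fintype.card F) m * gq (Fintype.card F) (n - 2 * m)) = gq (Fintype.card F) n := by
  classical
  haveI : Fintype {W : Submodule F V // Module.finrank F W = n - m} := Fintype.ofFinite _
  let e : {P : Submodule F V × Submodule F V // P.1 ≤ P.2 ∧ Module.finrank F P.1 = m ∧ Module.finrank F P.2 = n - m} ≃
      Σ W : {W : Submodule F V // Module.finrank F W = n - m}, {U : Submodule F V // U ≤ W.1 ∧ Module.finrank F U = m} :=
    { toFun := fun P => ⟨⟨P.1.2, P.2.2.2⟩, ⟨P.1.1, P.2.1, P.2.2.1⟩⟩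
      invFun := fun x => ⟨(x.2.1, x.1.1), x.2.2.1, x.2.2.2, x.1.2⟩
      left_inv := fun _ => rfl
      right_inv := fun _ => rfl }
  rw [Nat.card_congr e, Nat.card_sigma, Finset.sum_mul]
  have hW : ∀ W : {W : Submodule F V // Module.finrank F W = n - m},
      Nat.card {U : Submodule F V // U ≤ W.1 ∧ Module.finrank F U = m} *
        (gq (Fintype.card F) m * gq (Fintype.card F) m * gq (Fintype.card F) (n - 2 * m)) =
      gq (Fintype.card F) m * gq (Fintype.card F) (n - m) := by
    intro W
    rw [card_below, mul_assoc (gq _ m), mul_left_comm _ (gq (Fintype.card F) m),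
      show n - 2 * m = n - m - m by omega, card_sub_mul_gq W.2 (by omega)]
  simp only [hW, sum_const, card_univ, smul_eq_mul, ← Nat.card_eq_fintype_card (α := {W : Submodule F V // Module.finrank F W = n - m})]
  have h := card_sub_mul_gq (F := F) (V := V) hn (show n - m ≤ n by omega)
  rw [show n - (n - m) = m by omega] at h
  rw [mul_comm (gq _ m)]
  exact h

/-- A prime dividing a cancelled quotient divides one of the top factors. -/
theorem exists_dvd_of_quot {q r a b n C A : ℕ} (hr : r.Prime) (hq : 1 < q) (hn : n = a + b)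
    (h : C * (A * gq q a) = gq q n) (hC : r ∣ C) : ∃ t, a < t ∧ t ≤ n ∧ r ∣ q ^ t - 1 := by
  rw [hn, gq_add, ← mul_assoc, mul_comm (gq q a)] at h
  have h' := mul_right_cancel₀ (gq_pos hq a).ne' h
  obtain ⟨j, hj, hd⟩ := (Nat.prime_iff.mp hr).dvd_finsetProd_iff _ |>.mp (h' ▸ dvd_mul_of_dvd_left hC A)
  exact ⟨a + j + 1, by omega, by have := mem_range.mp hj; omega, hd⟩

theorem exists_dvd_sub {r n m : ℕ} (hr : r.Prime) (hn : Module.finrank F V = n) (hm : m ≤ n)
    (hC : r ∣ Nat.card {W : Submodule F V // Module.finrank F W = m}) :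
    ∃ t, n - m < t ∧ t ≤ n ∧ r ∣ Fintype.card F ^ t - 1 :=
  exists_dvd_of_quot hr Fintype.one_lt_card (a := n - m) (b := m) (by omega) (card_sub_mul_gq hn hm) hC

theorem exists_dvd_pairs {r n m : ℕ} (hr : r.Prime) (hn : Module.finrank F V = n) (hm : 2 * m ≤ n)
    (hC : r ∣ Nat.card {P : Submodule F V × Submodule F V // P.1 ≤ P.2 ∧ Module.finrank F P.1 = m ∧ Module.finrank F P.2 = n - m}) :
    ∃ t, n - 2 * m < t ∧ t ≤ n ∧ r ∣ Fintype.card F ^ t - 1 :=
  exists_dvd_of_quot hr Fintype.one_lt_card (a := n - 2 * m) (b := 2 * m) (by omega) (card_pairs_mul hn hm) hC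

/-- What a top factor says about the order of `q` modulo `r`. -/
theorem order_facts {q r n a t : ℕ} (hr : r.Prime) (hq : 1 < q) (hta : a < t) (htn : t ≤ n) (hd : r ∣ q ^ t - 1) :
    ¬ r ∣ q ∧ 0 < orderOf (q : ZMod r) ∧ orderOf (q : ZMod r) ≤ n ∧ n % orderOf (q : ZMod r) < n - a := by
  haveI := Fact.mk hr
  have ht1 : (q : ZMod r) ^ t = 1 := by
    have h := (ZMod.natCast_eq_zero_iff _ _).mpr hd
    rwa [Nat.cast_sub (Nat.one_le_pow _ _ (by omega)), Nat.cast_pow, Nat.cast_one, sub_eq_zero] at h
  have hi := orderOf_dvd_of_pow_eq_one ht1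
  have hpos : 0 < orderOf (q : ZMod r) := Nat.pos_of_ne_zero fun h => by rw [h, Nat.zero_dvd] at hi; omega
  refine ⟨fun hrq => ?_, hpos, (Nat.le_of_dvd (by omega) hi).trans htn, ?_⟩
  · have h0 : (q : ZMod r) = 0 := (ZMod.natCast_eq_zero_iff _ _).mpr hrq
    rw [h0, zero_pow (by omega)] at ht1
    exact zero_ne_one ht1
  · obtain ⟨c, hc⟩ := hi
    have : n % orderOf (q : ZMod r) = (n - t) % orderOf (q : ZMod r) := by
      conv_lhs => rw [show n = (n - t) + t by omega, hc, Nat.add_mul_mod_self_left]
      rw [hc]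
    rw [this]
    exact lt_of_le_of_lt (Nat.mod_le _ _) (by omega)

end CfsgLib.SubElusive
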