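import Cfsg.Agent.SubElusive.Twist
import Cfsg.Agent.SubElusive.Count
import Cfsg.Agent.SemiClasses.Models
import Cfsg.Agent.SemiClasses.OrthCount
import Cfsg.Agent.Forms.Classify
import Cfsg.Agent.Forms.GeoBridge
import Cfsg.Agent.SL2.Basic
import Cfsg.Agent.S0286
import Cfsg.Agent.S0287
import Cfsg.Agent.S0288

/-!
Symmetric Gram matrices, the index of the similitude group, and witnesses for orthogonal type.
-/

set_option autoImplicit false
set_option linter.style.haveILetI false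

namespace CfsgLib.SubElusive

open Polynomial QuadraticMap CfsgLib.Forms CfsgLib.SemiClasses
open scoped Matrix MatrixGroups

variable {F : Type*} [Field F] {n : ℕ}

local notation "Mat" => Matrix (Fin n) (Fin n) F

theorem sim_iff (h2 : (2 : F) ≠ 0) (Q : QuadraticForm F (Fin n → F)) (G : Mat)
    (hG : ∀ u v, u ⬝ᵥ (G *ᵥ v) = polar Q u v) (g : Mat) (μ : F) :
    (∀ v, Q (g *ᵥ v) = μ * Q v) ↔ GramSim (RingHom.id F) G g μ := by
  rw [← gramSim_iff (σ := RingHom.id F) (fun u v => polar Q u v) G (fun u v => (hG u v).symm)]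
  constructor
  · intro h u v
    simp only [polar, ← Matrix.mulVec_add, h]
    ring
  · intro h v
    have h1 := h v v
    simp only [polar_self, nsmul_eq_mul, Nat.cast_ofNat] at h1
    exact mul_left_cancel₀ h2 (by linear_combination h1)

theorem card_iso_congr {ι κ : Type} [Fintype ι] [DecidableEq ι] [Fintype κ] [DecidableEq κ]
    {Q : QuadraticForm F (ι → F)} {Q' : QuadraticForm F (κ → F)} (g : (ι → F) ≃ₗ[F] (κ → F))
    (hg : ∀ v, Q' (g v) = Q v) :
    Nat.card (Cfsg.isometryGroup F ⇑Q) = Nat.card (Cfsg.isometryGroup F ⇑Q') := by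
  rw [Nat.card_congr (isoEquiv Q).toEquiv, Nat.card_congr (isoEquiv Q').toEquiv]
  refine Nat.card_congr
    { toFun := fun e => ⟨g.symm.trans ((e : (ι → F) ≃ₗ[F] (ι → F)).trans g), fun v => ?_⟩
      invFun := fun e => ⟨g.trans ((e : (κ → F) ≃ₗ[F] (κ → F)).trans g.symm), fun v => ?_⟩
      left_inv := fun e => Subtype.ext (LinearEquiv.ext fun v => by simp)
      right_inv := fun e => Subtype.ext (LinearEquiv.ext fun v => by simp) }
  · simp only [LinearEquiv.trans_apply]
    rw [hg, e.2, ← hg, g.apply_symm_apply]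
  · simp only [LinearEquiv.trans_apply]
    rw [← hg, g.apply_symm_apply, e.2, hg]

theorem card_iso_smul {ι : Type} [Fintype ι] [DecidableEq ι] {c : F} (hc : c ≠ 0) (Q : QuadraticForm F (ι → F)) :
    Nat.card (Cfsg.isometryGroup F ⇑(c • Q)) = Nat.card (Cfsg.isometryGroup F ⇑Q) := by
  have : Cfsg.isometryGroup F ⇑(c • Q) = Cfsg.isometryGroup F ⇑Q := by
    ext g
    simp [mem_isometryGroup, hc]
  rw [this]

theorem gq_split_odd (q m : ℕ) : gq q (2 * m + 1) =
    (∏ i ∈ Finset.range (m + 1), (q ^ (2 * i + 1) - 1)) * ∏ i ∈ Finset.range m, (q ^ (2 * (i + 1)) - 1) := by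
  unfold gq
  induction m with
  | zero => simp
  | succ m ih =>
    rw [show 2 * (m + 1) + 1 = 2 * m + 1 + 1 + 1 by ring, Finset.prod_range_succ, Finset.prod_range_succ, ih,
      Finset.prod_range_succ (f := fun i => q ^ (2 * i + 1) - 1) (n := m + 1),
      Finset.prod_range_succ (f := fun i => q ^ (2 * (i + 1)) - 1) (n := m)]
    ring_nf

theorem gq_split_even (q k : ℕ) : gq q (2 * (k + 1)) =
    (∏ i ∈ Finset.range (k + 1), (q ^ (2 * i + 1) - 1)) * ∏ i ∈ Finset.range (k + 1), (q ^ (2 * (i + 1)) - 1) := by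
  have h := gq_split_odd q k
  unfold gq at h ⊢
  rw [show 2 * (k + 1) = 2 * k + 1 + 1 by ring, Finset.prod_range_succ, h,
    Finset.prod_range_succ (f := fun i => q ^ (2 * (i + 1)) - 1) (n := k)]
  ring_nf

variable [Fintype F]

/-- The primes dividing the index of a group containing the special orthogonal group. -/
theorem orth_index {r : ℕ} [hr : Fact r.Prime] (hr2 : r ≠ 2) (hrq : ¬ r ∣ Fintype.card F) (hodd : Odd (Fintype.card F))
    (hn : 1 ≤ n) (Q : QuadraticForm F (Fin n → F)) (hQ : (polarBilin Q).Nondegenerate)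
    (H : Subgroup (GL (Fin n) F)) (hle : Cfsg.isometryGroup F ⇑Q ≤ H)
    (h : r ∣ H.relIndex (Cfsg.Geo.specialLinear (Fin n) F)) :
    (∃ j, Odd j ∧ j ≤ n ∧ (Fintype.card F : ZMod r) ^ j = 1) ∨
      ∃ m, n = 2 * m ∧ ((HasHalf Q ∧ (Fintype.card F : ZMod r) ^ m = -1) ∨
        (¬ HasHalf Q ∧ (Fintype.card F : ZMod r) ^ m = 1)) := by
  classical
  obtain ⟨q, hq⟩ : ∃ q, q = Fintype.card F := ⟨_, rfl⟩
  have hq2 : 2 ≤ q := hq ▸ Fintype.one_lt_card
  obtain ⟨K, hK⟩ : ∃ K, K = H.subgroupOf (Cfsg.Geo.specialLinear (Fin n) F) := ⟨_, rfl⟩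
  rw [Subgroup.relIndex, ← hK] at h
  let O := Cfsg.isometryGroup F ⇑Q
  let φ : O →* Fˣ := (Matrix.GeneralLinearGroup.det).comp O.subtype
  have hφ : φ = (Matrix.GeneralLinearGroup.det).comp O.subtype := rfl
  have hker : Nat.card φ.ker ∣ Nat.card K := by
    let em : φ.ker →* Cfsg.Geo.specialLinear (Fin n) F :=
      { toFun := fun g => ⟨g.1.1, by
          exact g.2⟩
        map_one' := rfl
        map_mul' := fun _ _ => rfl }
    have hinj : Function.Injective em := fun a b hab => Subtype.ext (Subtype.ext (congrArg Subtype.val hab :))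
    rw [Nat.card_congr (MonoidHom.ofInjective hinj).toEquiv]
    refine Subgroup.card_dvd_of_le ?_
    rintro _ ⟨g, rfl⟩
    rw [hK, Subgroup.mem_subgroupOf]
    exact hle g.1.2
  obtain ⟨G, hGu, -, -, hGX⟩ := gram_spec Q hQ
  have hrange : Nat.card φ.range ∣ 2 := by
    have hsq : φ.range ≤ rootsOfUnity 2 F := by
      rintro _ ⟨g, rfl⟩
      rw [mem_rootsOfUnity]
      refine Units.ext ?_
      have h1 := congrArg Matrix.det (hGX _ (mem_isometryGroup.mp g.2))
      rw [Matrix.det_mul, Matrix.det_mul, Matrix.det_transpose] at h1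
      rw [hφ]
      refine mul_right_cancel₀ hGu.ne_zero ?_
      rw [Units.val_one, one_mul, Units.val_pow_eq_pow_val, pow_two]
      simp only [MonoidHom.comp_apply, Subgroup.coe_subtype, Matrix.GeneralLinearGroup.val_det_apply]
      linear_combination h1
    have h2 : Nat.card (rootsOfUnity 2 F) ≤ 2 := by
      exact card_rootsOfUnity F 2
    have h3 := Subgroup.card_le_of_le hsq
    have h4 : 0 < Nat.card φ.range := Nat.card_pos
    rcases (show Nat.card φ.range = 1 ∨ Nat.card φ.range = 2 by omega) with e | e <;> rw [e]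
    exact one_dvd 2
  obtain ⟨c₁, hc₁⟩ := hker
  obtain ⟨c₂, hc₂⟩ := hrange
  have hcardSL : Nat.card (Cfsg.Geo.specialLinear (Fin n) F) = Nat.card (Matrix.SpecialLinearGroup (Fin n) F) :=
    Nat.card_congr
      { toFun := fun g => ⟨g.1.1, congrArg Units.val g.2⟩
        invFun := fun s => ⟨Matrix.SpecialLinearGroup.toGL s, Units.ext s.2⟩
        left_inv := fun g => Subtype.ext (Units.ext rfl)
        right_inv := fun s => Subtype.ext rfl }
  have hO : Nat.card O = Nat.card φ.range * Nat.card φ.ker := by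
    rw [← φ.ker.index_mul_card, Subgroup.index_ker]
  have hSL := CfsgLib.SL2.card_SL_mul (F := F) n hn
  rw [← hcardSL, ← K.card_mul_index, hc₁, Matrix.card_GL_field,
    Fin.prod_univ_eq_prod_range (fun i => Fintype.card F ^ n - Fintype.card F ^ i) n] at hSL
  have hnq := CfsgLib.SubElusive.nq_mul (Fintype.card F) n n le_rfl
  rw [Nat.sub_self, show gq (Fintype.card F) 0 = 1 from Finset.prod_range_zero _, mul_one] at hnq
  unfold nq at hnq
  rw [hnq, ← hq] at hSL
  have key : Nat.card O * (c₁ * c₂ * K.index * (q - 1)) = 2 * (q ^ (∑ j ∈ Finset.range n, j) * gq q n) := by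
    rw [← hSL, hO, hc₂]
    ring
  have hidx : r ∣ c₁ * c₂ * K.index := dvd_mul_of_dvd_right h _
  have hrq' : ∀ a, ¬ r ∣ q ^ a := fun a h' => hrq (hq ▸ hr.out.dvd_of_dvd_pow h')
  have hq1 : 0 < q - 1 := by omega
  have hcast : ∀ j, r ∣ q ^ j - 1 → (Fintype.card F : ZMod r) ^ j = 1 := fun j hj => by
    rw [← ZMod.natCast_eq_zero_iff, Nat.cast_sub (Nat.one_le_pow _ _ (by omega)), Nat.cast_pow, Nat.cast_one,
      sub_eq_zero, hq] at hj
    exact hj
  have hfin : ∀ (k : ℕ) (P a b : ℕ), 2 * k + 1 ≤ n →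
      c₁ * c₂ * K.index * q ^ a = q ^ b * ((∏ i ∈ Finset.range k, (q ^ (2 * i + 3) - 1)) * P) →
      (∃ j, Odd j ∧ j ≤ n ∧ (Fintype.card F : ZMod r) ^ j = 1) ∨ r ∣ P := by
    intro k P a b hk he
    have h1 : r ∣ q ^ b * ((∏ i ∈ Finset.range k, (q ^ (2 * i + 3) - 1)) * P) := he ▸ dvd_mul_of_dvd_left hidx _
    rcases hr.out.dvd_mul.mp ((hr.out.dvd_mul.mp h1).resolve_left (hrq' b)) with h2 | h2
    · obtain ⟨i, hi, hd⟩ := hr.out.prime.dvd_finsetProd_iff _ |>.mp h2
      exact Or.inl ⟨2 * i + 3, ⟨i + 1, by ring⟩, by rw [Finset.mem_range] at hi; omega, hcast _ hd⟩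
    · exact Or.inr h2
  have hfirst : ∀ k, ∏ i ∈ Finset.range (k + 1), (q ^ (2 * i + 1) - 1) =
      (∏ i ∈ Finset.range k, (q ^ (2 * i + 3) - 1)) * (q - 1) := fun k => by
    rw [Finset.prod_range_succ']
    simp only [mul_zero, zero_add, pow_one]
    rfl
  rcases Nat.even_or_odd n with ⟨m, hm⟩ | ⟨m, hm⟩
  · obtain ⟨k, rfl⟩ : ∃ k, m = k + 1 := ⟨m - 1, by omega⟩
    have hn2 : n = 2 * (k + 1) := by omega
    have hgq : gq q n = ((∏ i ∈ Finset.range k, (q ^ (2 * i + 3) - 1)) * (q - 1)) *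
        ((∏ i ∈ Finset.range k, (q ^ (2 * (i + 1)) - 1)) * ((q ^ (k + 1) + 1) * (q ^ (k + 1) - 1))) := by
      rw [hn2, gq_split_even, hfirst, Finset.prod_range_succ, ← Nat.sq_sub_sq, one_pow, ← pow_mul, mul_comm (k + 1) 2]
    rw [hgq] at key
    have hι : Fintype.card (Fin n) = 2 * (k + 1) := by rw [Fintype.card_fin, hn2]
    have hqk : 2 ≤ q ^ (k + 1) := hq2.trans (Nat.le_self_pow (by omega) _)
    have hEpos : 0 < ∏ i ∈ Finset.range k, (q ^ (2 * (i + 1)) - 1) := Finset.prod_pos fun i _ => by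
      have : 2 ≤ q ^ (2 * (i + 1)) := hq2.trans (Nat.le_self_pow (by omega) _)
      omega
    by_cases hs : HasHalf Q
    · obtain ⟨g, hg⟩ := exists_iso_plus hQ hι hs
      rw [card_iso_congr g hg, CfsgLib.Forms.coe_quadPlus, Cfsg.Agent.S0287.result hq.symm (k + 1) (by omega)] at key
      rcases hfin k (q ^ (k + 1) + 1) ((k + 1) * (k + 1 - 1)) (∑ j ∈ Finset.range n, j) (by omega) (by
        apply Nat.eq_of_mul_eq_mul_left (show 0 < 2 * (q ^ (k + 1) - 1) *
          (∏ i ∈ Finset.range k, (q ^ (2 * (i + 1)) - 1)) * (q - 1) from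
            Nat.mul_pos (Nat.mul_pos (Nat.mul_pos two_pos (by omega)) hEpos) hq1)
        rw [show k + 1 - 1 = k from rfl] at key ⊢
        linear_combination key) with h1 | h1
      · exact Or.inl h1
      · refine Or.inr ⟨k + 1, hn2, Or.inl ⟨hs, ?_⟩⟩
        rw [← ZMod.natCast_eq_zero_iff, Nat.cast_add, Nat.cast_pow, Nat.cast_one, hq] at h1
        exact eq_neg_of_add_eq_zero_left h1
    · obtain ⟨c, hc⟩ := exists_irreducible_quadratic F
      obtain ⟨-, g, hg⟩ := exists_iso_minus hQ hι hs (anis_of_irred hc)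
      rw [card_iso_congr g hg, CfsgLib.Forms.coe_quadMinus,
        Cfsg.Agent.S0288.result hq.symm (k + 1) (by omega) 1 c (anis_of_irred hc)] at key
      rcases hfin k (q ^ (k + 1) - 1) ((k + 1) * (k + 1 - 1)) (∑ j ∈ Finset.range n, j) (by omega) (by
        apply Nat.eq_of_mul_eq_mul_left (show 0 < 2 * (q ^ (k + 1) + 1) *
          (∏ i ∈ Finset.range k, (q ^ (2 * (i + 1)) - 1)) * (q - 1) from
            Nat.mul_pos (Nat.mul_pos (Nat.mul_pos two_pos (Nat.succ_pos _)) hEpos) hq1)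
        rw [show k + 1 - 1 = k from rfl] at key ⊢
        linear_combination key) with h1 | h1
      · exact Or.inl h1
      · exact Or.inr ⟨k + 1, hn2, Or.inr ⟨hs, hcast _ h1⟩⟩
  · obtain ⟨c, hc, g, hg⟩ := exists_iso_scaled hQ (m := m) (by rw [Fintype.card_fin, hm])
    have hgq : gq q n = ((∏ i ∈ Finset.range m, (q ^ (2 * i + 3) - 1)) * (q - 1)) *
        ∏ i ∈ Finset.range m, (q ^ (2 * (i + 1)) - 1) := by rw [hm, gq_split_odd, hfirst]
    rw [card_iso_congr g hg, card_iso_smul hc, CfsgLib.Forms.coe_quadOdd, Cfsg.Agent.S0286.result hq.symm (hq ▸ hodd) m,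
      hgq] at key
    have hEpos : 0 < ∏ i ∈ Finset.range m, (q ^ (2 * (i + 1)) - 1) := Finset.prod_pos fun i _ => by
      have : 2 ≤ q ^ (2 * (i + 1)) := hq2.trans (Nat.le_self_pow (by omega) _)
      omega
    rcases hfin m 1 (m ^ 2) (∑ j ∈ Finset.range n, j) (by omega) (by
      apply Nat.eq_of_mul_eq_mul_left (show 0 < 2 * (∏ i ∈ Finset.range m, (q ^ (2 * (i + 1)) - 1)) * (q - 1) from
        Nat.mul_pos (Nat.mul_pos two_pos hEpos) hq1)
      linear_combination key) with h1 | h1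
    · exact Or.inl h1
    · exact absurd (Nat.le_of_dvd one_pos h1) (by have := hr.out.two_le; omega)

/-- The invariant form of a diagonal unipotent witness is degenerate. -/
theorem transvection_not_sim (h2 : (2 : F) ≠ 0) {G : Mat} (hGt : Gᵀ = G) (hG : IsUnit G.det) {i j : Fin n} (hij : i ≠ j) :
    ¬ GramSim (RingHom.id F) G (Matrix.transvection i j 1) 1 := by
  intro h
  unfold GramSim at h
  rw [one_smul, RingHom.coe_id, Matrix.map_id] at h
  refine hG.ne_zero (Matrix.det_eq_zero_of_row_eq_zero i fun k => ?_)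
  rw [show (Matrix.transvection i j (1 : F))ᵀ = Matrix.transvection j i 1 by
    simp [Matrix.transvection, Matrix.transpose_add, Matrix.transpose_single]] at h
  have hsym : ∀ a b, G a b = G b a := fun a b => congrFun (congrFun hGt b) a
  have hkey : ∀ k, k ≠ j → G i k = 0 := fun k hk => by
    have h1 := congrFun (congrFun h j) k
    rw [Matrix.mul_transvection_apply_of_ne _ _ _ _ hk,
      Matrix.transvection_mul_apply_same, one_mul] at h1
    linear_combination h1
  have hii : G i i = 0 := hkey i hij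
  by_cases hk : k = j
  · subst hk
    have h1 := congrFun (congrFun h k) k
    rw [Matrix.mul_transvection_apply_same, Matrix.transvection_mul_apply_same,
      Matrix.transvection_mul_apply_same, one_mul, one_mul, one_mul, hsym k i, hii, add_zero] at h1
    exact (mul_eq_zero.mp (show (2 : F) * G i k = 0 by linear_combination h1)).resolve_left h2
  · exact hkey k hk

variable {p r : ℕ} [Fact p.Prime] [CharP F p] [hr : Fact r.Prime]

/-- An element without fixed vectors. -/
theorem exists_fpf (hrp : r ≠ p) (hi : 2 ≤ orderOf (Fintype.card F : ZMod r)) (hn : 1 ≤ n)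
    (hin : orderOf (Fintype.card F : ZMod r) ∣ n) :
    ∃ x : Mat, x.det = 1 ∧ x ^ r = 1 ∧ (∀ c : F, x ≠ c • (1 : Mat)) ∧ x.charpoly.eval 1 ≠ 0 := by
  classical
  obtain ⟨i, hidef⟩ : ∃ i, i = orderOf (Fintype.card F : ZMod r) := ⟨_, rfl⟩
  rw [← hidef] at hi hin
  obtain ⟨k, hk⟩ := hin
  obtain ⟨S, hS1, -, hS3, hS4⟩ := CfsgLib.PrimeClasses.exists_factors (F := F) hr.out hrp
  rw [← hidef] at hS4
  have hi2 : i ∣ r - 1 := by
    rw [hidef]
    refine orderOf_dvd_of_pow_eq_one (ZMod.pow_card_sub_one_eq_one fun h0 => ?_)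
    rw [hidef, h0, orderOf_zero] at hi
    omega
  obtain ⟨P, hP⟩ : S.Nonempty := Finset.card_pos.mp (by
    rw [hS4]
    exact Nat.div_pos (Nat.le_of_dvd (by have := hr.out.two_le; omega) hi2) (by omega))
  obtain ⟨hPm, hPi, hPd, -⟩ := hS1 P hP
  rw [← hidef] at hPd
  have hP0 : ∀ c : F, P.eval c ≠ 0 := fun c h => by
    have h1 : P.natDegree = 1 := natDegree_eq_of_degree_eq_some (degree_eq_one_of_irreducible_of_root hPi h)
    omega
  obtain ⟨g, hg, hgc⟩ := Cfsg.Agent.H29.Semisimple.exists_matrix (n := n) p (P ^ k)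
    (hPm.pow _) (by rw [natDegree_pow, hPd, hk, mul_comm]) (by rw [eval_pow]; exact pow_ne_zero _ (hP0 0))
  have hgr : g ^ r = 1 := by
    refine CfsgLib.PrimeClasses.pow_eq_one_of_factors (p := p) (r_ne_zero hrp) g hg fun R hR hd => ?_
    rw [hgc] at hd
    exact (hR.associated_of_dvd hPi (hR.prime.dvd_of_dvd_pow hd)).dvd.trans (hS3 P hP)
  have hdet : (g : Mat).det = 1 := by
    set u : Fˣ := Matrix.GeneralLinearGroup.det g with hu
    have h1 : orderOf u ∣ r := orderOf_dvd_of_pow_eq_one (by rw [hu, ← map_pow, hgr, map_one])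
    have h2 : u = 1 := orderOf_eq_one_iff.mp (((Nat.dvd_prime hr.out).mp h1).resolve_right fun h => by
      have h3 := orderOf_dvd_natCard u
      rw [h, Nat.card_units, Nat.card_eq_fintype_card] at h3
      have := r_dvd_sub_iff.mp h3
      omega)
    have := congrArg Units.val h2
    rwa [hu, Matrix.GeneralLinearGroup.val_det_apply, Units.val_one] at this
  refine ⟨(g : Mat), hdet, by rw [← Units.val_pow_eq_pow_val, hgr, Units.val_one], fun c hc => ?_, ?_⟩
  · haveI : Nonempty (Fin n) := ⟨⟨0, by omega⟩⟩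
    have h1 : (g : Mat).charpoly.eval c = 0 := by
      rw [hc, Matrix.smul_one_eq_diagonal, Matrix.charpoly_diagonal, eval_prod]
      exact Finset.prod_eq_zero (Finset.mem_univ ⟨0, by omega⟩) (by simp)
    rw [hgc, eval_pow] at h1
    exact hP0 c (pow_eq_zero_iff'.mp h1).1
  · rw [hgc, eval_pow]
    exact pow_ne_zero _ (hP0 1)

end CfsgLib.SubElusive
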