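import Cfsg.Agent.SubElusive.Twist

/-!
The symmetric spectra in dimensions three and five, and the second witness.
-/

set_option autoImplicit false
set_option linter.style.haveILetI false

namespace CfsgLib.SubElusive

open Polynomial
open scoped Matrix

variable {F : Type*} [Field F] {n : ℕ}

local notation "Mat" => Matrix (Fin n) (Fin n) F

/-- The exponents `(1, 0, …, 0)` admit no twisted symmetry. -/
theorem single_not_invariant {r : ℕ} [Fact r.Prime] (hn : 3 ≤ n) (j0 : Fin n) {u : ZMod r} (hu : u ≠ 1) :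
    ¬ ∃ e, ∀ b, (Finset.univ.filter fun j => (Pi.single j0 1 : Fin n → ZMod r) j = b).card =
      (Finset.univ.filter fun j => (Pi.single j0 1 : Fin n → ZMod r) j = u * b + e).card := by
  classical
  rintro ⟨e, he⟩
  have h10 : (1 : ZMod r) ≠ 0 := one_ne_zero
  have m1 : (Finset.univ.filter fun j => (Pi.single j0 1 : Fin n → ZMod r) j = 1).card = 1 := by
    rw [Finset.card_eq_one]
    refine ⟨j0, Finset.ext fun j => ?_⟩
    by_cases hj : j = j0 <;> simp [hj, Ne.symm h10]
  have m0 : (Finset.univ.filter fun j => (Pi.single j0 1 : Fin n → ZMod r) j = 0).card = n - 1 := by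
    rw [show (Finset.univ.filter fun j => (Pi.single j0 1 : Fin n → ZMod r) j = 0) = Finset.univ.erase j0 from
      Finset.ext fun j => by by_cases hj : j = j0 <;> simp [hj, h10], Finset.card_erase_of_mem (Finset.mem_univ _),
      Finset.card_univ, Fintype.card_fin]
  have hout : ∀ b, b ≠ 1 → b ≠ 0 → (Finset.univ.filter fun j => (Pi.single j0 1 : Fin n → ZMod r) j = b).card = 0 := by
    intro b b1 b0
    rw [Finset.card_eq_zero, Finset.filter_eq_empty_iff]
    intro j _
    by_cases hj : j = j0 <;> simp [hj, Ne.symm b1, Ne.symm b0]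
  have h0 := he 0
  have h1 := he 1
  have e0 : u * 0 + e = 0 := by
    by_contra h
    by_cases h' : u * 0 + e = 1
    · rw [h', m0, m1] at h0; omega
    · rw [m0, hout _ h' h] at h0; omega
  have e1 : u * 1 + e = 1 := by
    by_contra h
    by_cases h' : u * 1 + e = 0
    · rw [h', m0, m1] at h1; omega
    · rw [m1, hout _ h h'] at h1; omega
  exact hu (by linear_combination e1 - e0)

theorem three_counts : ∀ a b c : Fin 3, a.val + b.val + c.val = 3 → (b.val + 2 * c.val) % 3 = 0 →
    ∃ e : Fin 3, ∀ x : Fin 3, ![a, b, c] x = ![a, b, c] (e - x) := by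
  decide +kernel

theorem five_counts : ∀ a b c d f : Fin 5, a.val + b.val + c.val + d.val + f.val = 5 →
    (b.val + 2 * c.val + 3 * d.val + 4 * f.val) % 5 = 0 →
    ∃ e : Fin 5, ∀ x : Fin 5, ![a, b, c, d, f] x = ![a, b, c, d, f] (e - x) := by
  decide +kernel

/-- An involution realising a symmetry of the multiplicities. -/
theorem exists_involution_of_counts {r : ℕ} [NeZero r] (a : Fin n → ZMod r) (e : ZMod r)
    (he : ∀ b, (Finset.univ.filter fun j => a j = b).card = (Finset.univ.filter fun j => a j = e - b).card) :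
    ∃ π : Equiv.Perm (Fin n), Function.Involutive π ∧ ∀ j, a (π j) = e - a j := by
  classical
  obtain ⟨m, hm⟩ : ∃ m : ZMod r → ℕ, ∀ b, m b = Fintype.card {j // a j = b} := ⟨_, fun _ => rfl⟩
  have hme : ∀ b, m b = m (e - b) := fun b => by
    rw [hm, hm, Fintype.card_subtype, Fintype.card_subtype]; exact he b
  let eqv : ∀ b, {j // a j = b} ≃ Fin (m b) := fun b => Fintype.equivFinOfCardEq (hm b).symm
  let φ : Fin n ≃ Σ b, Fin (m b) := (Equiv.sigmaFiberEquiv a).symm.trans (Equiv.sigmaCongrRight eqv)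
  let g : (Σ b, Fin (m b)) → Σ b, Fin (m b) := fun x => ⟨e - x.1, Fin.cast (hme x.1) x.2⟩
  have hg : Function.Involutive g := by
    rintro ⟨b, k⟩
    refine Sigma.ext (sub_sub_cancel e b) ?_
    exact (Fin.heq_ext_iff (by simp [g])).mpr rfl
  refine ⟨(φ.trans (Function.Involutive.toPerm g hg)).trans φ.symm, fun j => ?_, fun j => ?_⟩
  · show φ.symm (g (φ (φ.symm (g (φ j))))) = j
    rw [Equiv.apply_symm_apply, hg, Equiv.symm_apply_apply]
  · show a (φ.symm (g (φ j))) = e - a j
    have h1 : ∀ x : Σ b, Fin (m b), a (φ.symm x) = x.1 := fun x => ((eqv x.1).symm x.2).2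
    rw [h1]
    rfl

theorem exists_pairing {r : ℕ} [Fact r.Prime] (hr : r = 3 ∨ r = 5) (hnr : n = r) (a : Fin n → ZMod r)
    (hsum : ∑ j, a j = 0) (hne : ∀ t, ∃ j, a j ≠ t) :
    ∃ (π : Equiv.Perm (Fin n)) (e : ZMod r), Function.Involutive π ∧ ∀ j, a (π j) = e - a j := by
  classical
  subst hnr
  have htot : ∑ b, (Finset.univ.filter fun j => a j = b).card = n := by
    rw [← Finset.card_eq_sum_card_fiberwise (fun j _ => Finset.mem_univ _), Finset.card_univ, Fintype.card_fin]
  have hlt : ∀ b, (Finset.univ.filter fun j => a j = b).card < n := fun b => by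
    obtain ⟨j, hj⟩ := hne b
    have := Finset.card_lt_univ_of_notMem (x := j) (s := Finset.univ.filter fun j => a j = b) (by simpa using hj)
    simpa using this
  have hw : ∑ b : ZMod n, ((Finset.univ.filter fun j => a j = b).card : ZMod n) * b = 0 := by
    rw [← hsum, ← Finset.sum_fiberwise Finset.univ a a]
    refine Finset.sum_congr rfl fun b _ => ?_
    rw [Finset.sum_congr rfl (g := fun _ => b) (fun j hj => (Finset.mem_filter.mp hj).2), Finset.sum_const, nsmul_eq_mul]
  rcases hr with rfl | rfl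
  · let c : ZMod 3 → Fin 3 := fun b => ⟨(Finset.univ.filter fun j => a j = b).card, hlt b⟩
    have h1 : (c 0).val + (c 1).val + (c 2).val = 3 := (Fin.sum_univ_three (fun b : Fin 3 => (c b).val)).symm.trans htot
    have h2 : ((c 1).val + 2 * (c 2).val) % 3 = 0 := by
      have h3 : (((c 1).val + 2 * (c 2).val : ℕ) : ZMod 3) = 0 := by
        rw [← hw]
        show _ = ∑ b : ZMod 3, ((c b).val : ZMod 3) * b
        rw [show (∑ b : ZMod 3, ((c b).val : ZMod 3) * b) =
          ((c 0).val : ZMod 3) * 0 + ((c 1).val : ZMod 3) * 1 + ((c 2).val : ZMod 3) * 2 from Fin.sum_univ_three _]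
        push_cast; ring
      exact Nat.mod_eq_zero_of_dvd ((ZMod.natCast_eq_zero_iff _ _).mp h3)
    obtain ⟨e, he⟩ := three_counts (c 0) (c 1) (c 2) h1 h2
    have hc : ∀ x : ZMod 3, (![c 0, c 1, c 2] : ZMod 3 → Fin 3) x = c x := fun x => by
      have h3 : ∀ x : Fin 3, x = 0 ∨ x = 1 ∨ x = 2 := by decide
      rcases h3 x with h | h | h <;> subst h <;> rfl
    obtain ⟨π, hπ, hπa⟩ := exists_involution_of_counts a e fun b => by
      exact congrArg Fin.val (((hc b).symm.trans (he b)).trans (hc _))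
    exact ⟨π, e, hπ, hπa⟩
  · let c : ZMod 5 → Fin 5 := fun b => ⟨(Finset.univ.filter fun j => a j = b).card, hlt b⟩
    have h1 : (c 0).val + (c 1).val + (c 2).val + (c 3).val + (c 4).val = 5 := by
      exact (Fin.sum_univ_five (fun b : Fin 5 => (c b).val)).symm.trans htot
    have h2 : ((c 1).val + 2 * (c 2).val + 3 * (c 3).val + 4 * (c 4).val) % 5 = 0 := by
      have h3 : (((c 1).val + 2 * (c 2).val + 3 * (c 3).val + 4 * (c 4).val : ℕ) : ZMod 5) = 0 := by
        rw [← hw]
        show _ = ∑ b : ZMod 5, ((c b).val : ZMod 5) * b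
        rw [show (∑ b : ZMod 5, ((c b).val : ZMod 5) * b) =
          ((c 0).val : ZMod 5) * 0 + ((c 1).val : ZMod 5) * 1 + ((c 2).val : ZMod 5) * 2 + ((c 3).val : ZMod 5) * 3 +
            ((c 4).val : ZMod 5) * 4 from Fin.sum_univ_five _]
        push_cast; ring
      exact Nat.mod_eq_zero_of_dvd ((ZMod.natCast_eq_zero_iff _ _).mp h3)
    obtain ⟨e, he⟩ := five_counts (c 0) (c 1) (c 2) (c 3) (c 4) h1 h2
    have hc : ∀ x : ZMod 5, (![c 0, c 1, c 2, c 3, c 4] : ZMod 5 → Fin 5) x = c x := fun x => by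
      have h3 : ∀ x : Fin 5, x = 0 ∨ x = 1 ∨ x = 2 ∨ x = 3 ∨ x = 4 := by decide
      rcases h3 x with h | h | h | h | h <;> subst h <;> rfl
    obtain ⟨π, hπ, hπa⟩ := exists_involution_of_counts a e fun b => by
      exact congrArg Fin.val (((hc b).symm.trans (he b)).trans (hc _))
    exact ⟨π, e, hπ, hπa⟩

/-- The Gram matrix of an involution. -/
theorem pairing_gram (π : Equiv.Perm (Fin n)) (hπ : Function.Involutive π) :
    ∃ G : Mat, Gᵀ = G ∧ IsUnit G.det ∧ (∀ i j, G i j = if j = π i then 1 else 0) ∧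
      ∀ (σ : F →+* F) (d : Fin n → F) (μ : F), (∀ i, d i * σ (d (π i)) = μ) → GramSim σ G (Matrix.diagonal d) μ := by
  classical
  obtain ⟨G, hG⟩ : ∃ G : Mat, ∀ i j, G i j = if j = π i then 1 else 0 := ⟨_, fun _ _ => rfl⟩
  refine ⟨G, ?_, ?_, hG, fun σ d μ hd => ?_⟩
  · ext i j
    rw [Matrix.transpose_apply, hG, hG]
    refine if_congr ?_ rfl rfl
    exact ⟨fun h => by rw [h, hπ], fun h => by rw [h, hπ]⟩
  · rw [← Matrix.isUnit_iff_isUnit_det]
    refine IsUnit.of_mul_eq_one G ?_
    ext i j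
    rw [Matrix.mul_apply, Finset.sum_eq_single (π i) (fun k _ hk => by rw [hG i k, if_neg hk, zero_mul]) (by simp),
      hG, hG, if_pos rfl, one_mul, hπ i, Matrix.one_apply]
    exact if_congr eq_comm rfl rfl
  · unfold GramSim
    ext i j
    rw [Matrix.diagonal_transpose, Matrix.diagonal_map (map_zero σ), Matrix.mul_diagonal, Matrix.diagonal_mul,
      Matrix.smul_apply, smul_eq_mul, hG]
    split_ifs with h
    · subst h; rw [mul_one, hd, mul_one]
    · simp

variable [Fintype F] {p r : ℕ} [Fact p.Prime] [CharP F p] [hr : Fact r.Prime]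

omit [CharP F p] in
theorem split_data (hr2 : r ≠ 2) (hnr : n = r) (hrq : r ∣ Fintype.card F - 1) (hv : ¬ r ^ 2 ∣ Fintype.card F - 1)
    {ζ : AddChar (ZMod r) F} (hζ : Function.Injective ζ) (hrF : (r : F) ≠ 0) {x : Mat} (hdet : x.det = 1) {c : F}
    (hx : x ^ r = c • (1 : Mat)) (hx' : ∀ z : F, x ≠ z • (1 : Mat)) :
    x ^ r = 1 ∧ ∃ a : Fin n → ZMod r, x.charpoly = ∏ j, (X - C (ζ (a j))) ∧ ∑ j, a j = 0 ∧ ∀ t, ∃ j, a j ≠ t := by
  classical
  haveI : Nonempty (Fin n) := ⟨⟨0, hnr ▸ hr.out.pos⟩⟩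
  have hcr : c ^ n = 1 := by
    have := congrArg Matrix.det hx
    rw [Matrix.det_pow, hdet, one_pow, Matrix.det_smul, Matrix.det_one, mul_one, Fintype.card_fin] at this
    exact this.symm
  obtain ⟨d, hd⟩ : ∃ d : F, d ^ r = c := by
    by_contra hne
    push Not at hne
    have h1 := (nonsplit (r := r) x hne hx).2.1
    have h2 := det_nonsplit (r := r) (k := n / r) (by rw [hnr, Nat.div_self hr.out.pos, one_mul]) h1
    rw [hdet, hnr, Nat.div_self hr.out.pos, pow_one, (hr.out.odd_of_ne_two hr2).add_odd odd_one |>.neg_one_pow,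
      one_mul] at h2
    exact hne 1 (by rw [one_pow, h2])
  have hc : c = 1 := by
    rw [← hd, hnr, ← pow_mul] at hcr
    have hd0 : d ≠ 0 := fun h0 => by
      rw [h0, zero_pow (mul_ne_zero hr.out.ne_zero hr.out.ne_zero)] at hcr; exact zero_ne_one hcr
    have h1 : orderOf (Units.mk0 d hd0) ∣ r ^ 2 := orderOf_dvd_of_pow_eq_one (Units.ext (by rw [pow_two]; simpa using hcr))
    obtain ⟨k, hk, hk'⟩ := (Nat.dvd_prime_pow hr.out).mp h1
    have h2 : orderOf (Units.mk0 d hd0) ∣ r := by
      rcases (show k ≤ 1 ∨ k = 2 by omega) with h | h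
      · rw [hk']; exact (Nat.pow_dvd_pow r h).trans (by rw [pow_one])
      · exfalso
        refine hv ?_
        rw [← h, ← hk', ← Fintype.card_units]
        exact orderOf_dvd_card
    have h3 := orderOf_dvd_iff_pow_eq_one.mp h2
    rw [← hd]
    simpa using congrArg Units.val h3
  subst hc
  rw [one_smul] at hx
  obtain ⟨a, ha⟩ := split_charpoly hζ hx
  have hnn : ∀ t, ∃ j, a j ≠ t := by
    intro t
    by_contra hne
    push Not at hne
    have hζt : (ζ t) ^ r = 1 := by
      rw [← ζ.map_nsmul_eq_pow, nsmul_eq_mul, ZMod.natCast_self, zero_mul, ζ.map_zero_eq_one]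
    obtain ⟨P, hP, hxP⟩ := conj_core (n := n) (hnr ▸ hr.out.pos) hrF hx
      (Y := ζ t • (1 : Mat)) (by rw [_root_.smul_pow, one_pow, hζt, one_smul]) (by
        rw [ha, Matrix.smul_one_eq_diagonal, Matrix.charpoly_diagonal]
        exact Finset.prod_congr rfl fun j _ => by rw [hne j])
    refine hx' (ζ t) ?_
    have hPu : IsUnit P.det := by rw [hP]; exact isUnit_one
    rw [Matrix.mul_smul, Matrix.mul_one] at hxP
    rw [← Matrix.mul_nonsing_inv_cancel_right P x hPu, hxP, Matrix.smul_mul, Matrix.mul_nonsing_inv _ hPu]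
  refine ⟨hx, a, ha, hζ ?_, hnn⟩
  rw [ζ.map_zero_eq_one]
  have h1 := Matrix.det_eq_sign_charpoly_coeff x
  rw [hdet, ha, coeff_zero_eq_eval_zero, eval_prod, Fintype.card_fin] at h1
  simp only [eval_sub, eval_X, eval_C, zero_sub, Finset.prod_neg, Finset.card_univ, Fintype.card_fin, ← mul_assoc,
    ← mul_pow, neg_one_mul, neg_neg, one_pow, one_mul] at h1
  rw [h1]
  classical
  induction (Finset.univ : Finset (Fin n)) using Finset.induction_on with
  | empty => simp
  | insert j t hj ih => rw [Finset.sum_insert hj, Finset.prod_insert hj, ζ.map_add_eq_mul, ih]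

end CfsgLib.SubElusive
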