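import Mathlib

/-!
Invariant subspaces of a linear map from the divisors of its characteristic polynomial.
-/

set_option autoImplicit false
set_option linter.style.haveILetI false

namespace CfsgLib.SubElusive

open Polynomial UniqueFactorizationMonoid

theorem charpoly_eq_mul {R V : Type*} [Field R] [AddCommGroup V] [Module R V] [Module.Finite R V]
    (W : Submodule R V) (e : V →ₗ[R] V) (he : W ≤ W.comap e) :
    e.charpoly = (e.restrict he).charpoly * (W.mapQ W e he).charpoly := by
  classical
  let bW := Module.Free.chooseBasis R W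
  let bQ := Module.Free.chooseBasis R (V ⧸ W)
  let b := Module.Basis.sumQuot bW bQ
  let B := Matrix.of fun i l => (b.repr (e (b (Sum.inr l)))) (Sum.inl i)
  suffices h : LinearMap.toMatrix b b e = Matrix.fromBlocks (LinearMap.toMatrix bW bW (e.restrict he)) B 0
      (LinearMap.toMatrix bQ bQ (W.mapQ W e he)) by
    rw [← LinearMap.charpoly_toMatrix e b, h, Matrix.charpoly_fromBlocks_zero₂₁, LinearMap.charpoly_toMatrix,
      LinearMap.charpoly_toMatrix]
  ext u v
  cases u with
  | inl i =>
    cases v with
    | inl k =>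
      simp only [b, Module.Basis.sumQuot_inl, Matrix.fromBlocks_apply₁₁, LinearMap.toMatrix_apply]
      apply Module.Basis.sumQuot_repr_inl_of_mem
    | inr l => simp [b, LinearMap.toMatrix_apply, Matrix.fromBlocks_apply₁₂, B]
  | inr j =>
    cases v with
    | inl k =>
      suffices W.mkQ (e (bW k)) = 0 by simp [LinearMap.toMatrix_apply, b, this]
      rw [← LinearMap.mem_ker, Submodule.ker_mkQ]
      exact he (Submodule.coe_mem (bW k))
    | inr l =>
      simp only [LinearMap.toMatrix_apply, Module.Basis.sumQuot_repr_inr, Matrix.fromBlocks_apply₂₂, b]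
      rw [← Module.Basis.sumQuot_inr bW bQ l, W.mapQ_apply]
      simp

theorem dvd_of_matrix_aeval_eq_zero {F : Type*} [Field F] {n : Type*} [Fintype n] [DecidableEq n]
    (M : Matrix n n F) {P g : F[X]} (hP : Irreducible P) (hd : P ∣ M.charpoly) (hg : aeval M g = 0) : P ∣ g := by
  haveI := Fact.mk hP
  rcases isEmpty_or_nonempty n with h | h
  · have h0 : M.charpoly = 1 := (Matrix.charpoly_monic M).natDegree_eq_zero.mp
      (by rw [Matrix.charpoly_natDegree_eq_dim, Fintype.card_eq_zero])
    exact absurd (isUnit_of_dvd_one (h0 ▸ hd)) hP.not_isUnit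
  set M' := M.map (AdjoinRoot.of P) with hM'
  have hroot : (M'.charpoly).IsRoot (AdjoinRoot.root P) := by
    obtain ⟨Q, hQ⟩ := hd
    show M'.charpoly.eval (AdjoinRoot.root P) = 0
    rw [show M'.charpoly = M.charpoly.map (AdjoinRoot.of P) from Matrix.charpoly_map M _, hQ, Polynomial.map_mul,
      eval_mul, eval_map, AdjoinRoot.eval₂_root, zero_mul]
  have h1 : aeval M' (g.map (AdjoinRoot.of P)) = 0 := by
    rw [hM', show M.map (AdjoinRoot.of P) = (Algebra.ofId F (AdjoinRoot P)).mapMatrix M from rfl,
      ← AdjoinRoot.algebraMap_eq, aeval_map_algebraMap, aeval_algHom_apply, hg, map_zero]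
  have h2 := spectrum.subset_polynomial_aeval M' (g.map (AdjoinRoot.of P))
    ⟨_, Matrix.mem_spectrum_iff_isRoot_charpoly.mpr hroot, rfl⟩
  rw [h1, spectrum.zero_eq, Set.mem_singleton_iff] at h2
  simp only [eval_map] at h2
  rwa [← AdjoinRoot.mk_eq_zero, ← AdjoinRoot.aeval_eq, aeval_def, AdjoinRoot.algebraMap_eq]

variable {F : Type*} [Field F]

theorem dvd_of_aeval_eq_zero {V : Type*} [AddCommGroup V] [Module F V] [FiniteDimensional F V]
    (f : Module.End F V) {P g : F[X]} (hP : Irreducible P) (hd : P ∣ f.charpoly) (hg : aeval f g = 0) : P ∣ g := by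
  classical
  let b := Module.finBasis F V
  refine dvd_of_matrix_aeval_eq_zero (LinearMap.toMatrixAlgEquiv b f) hP ?_ ?_
  · rw [show LinearMap.toMatrixAlgEquiv b f = LinearMap.toMatrix b b f from rfl, LinearMap.charpoly_toMatrix]
    exact hd
  · rw [← AlgEquiv.coe_algHom, aeval_algHom_apply, hg, map_zero]

theorem exists_ker {V : Type*} [AddCommGroup V] [Module F V] [FiniteDimensional F V]
    (f : Module.End F V) {P : F[X]} (hP : Irreducible P) (hd : P ∣ f.charpoly) :
    ∃ v ≠ 0, aeval f P v = 0 := by
  by_contra h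
  push Not at h
  have hinj : Function.Injective (aeval f P) := by
    rw [← LinearMap.ker_eq_bot, Submodule.eq_bot_iff]
    intro v hv
    by_contra hv0
    exact h v hv0 hv
  obtain ⟨g, hg⟩ := dvd_of_aeval_eq_zero f hP hd (minpoly.aeval F f)
  have h1 : aeval f g = 0 := by
    refine LinearMap.ext fun v => hinj ?_
    rw [LinearMap.zero_apply, map_zero, ← Module.End.mul_apply, ← map_mul, ← hg, minpoly.aeval, LinearMap.zero_apply]
  have hne : minpoly F f ≠ 0 := minpoly.ne_zero (Algebra.IsIntegral.isIntegral f)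
  have hg0 : g ≠ 0 := fun h0 => hne (by rw [hg, h0, mul_zero])
  have h2 := natDegree_le_of_dvd (minpoly.dvd F f h1) hg0
  rw [hg, natDegree_mul hP.ne_zero hg0] at h2
  have := hP.natDegree_pos
  omega

/-- An invariant subspace carrying a given irreducible monic divisor. -/
theorem exists_cyclic {V : Type*} [AddCommGroup V] [Module F V] [FiniteDimensional F V]
    (f : Module.End F V) {P : F[X]} (hP : Irreducible P) (hm : P.Monic) (hd : P ∣ f.charpoly) :
    ∃ (W : Submodule F V) (hW : W ≤ W.comap f), LinearMap.charpoly (f.restrict hW) = P := by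
  classical
  obtain ⟨v, hv, hPv⟩ := exists_ker f hP hd
  let φ : degreeLT F P.natDegree →ₗ[F] V := ((LinearMap.applyₗ v).comp (aeval f).toLinearMap).comp (degreeLT F P.natDegree).subtype
  have hφ : ∀ g, φ g = aeval f g.1 v := fun _ => rfl
  have hinj : Function.Injective φ := by
    rw [← LinearMap.ker_eq_bot, Submodule.eq_bot_iff]
    rintro ⟨g, hg⟩ hk
    rw [LinearMap.mem_ker, hφ] at hk
    by_contra hg0
    have hg0' : g ≠ 0 := fun h => hg0 (Subtype.ext h)
    have hlt : g.natDegree < P.natDegree := (natDegree_lt_iff_degree_lt hg0').mpr (mem_degreeLT.mp hg)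
    obtain ⟨a, b, hab⟩ : IsCoprime P g :=
      (EuclideanDomain.dvd_or_coprime P g hP).resolve_left fun h => by
        have := natDegree_le_of_dvd h hg0'; omega
    apply hv
    have h1 := congrArg (fun A : F[X] => aeval f A v) hab
    simp only [map_add, map_mul, map_one, LinearMap.add_apply, Module.End.mul_apply, Module.End.one_apply] at h1
    rw [show aeval f P v = 0 from hPv, show aeval f g v = 0 from hk, map_zero, map_zero, add_zero] at h1
    exact h1.symm
  have hmod : ∀ g : F[X], g %ₘ P ∈ degreeLT F P.natDegree := fun g => by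
    rw [mem_degreeLT, ← degree_eq_natDegree hP.ne_zero]
    exact degree_modByMonic_lt g hm
  have hev : ∀ g : F[X], aeval f g v = φ ⟨g %ₘ P, hmod g⟩ := fun g => by
    rw [hφ]
    conv_lhs => rw [← modByMonic_add_div g P]
    rw [map_add, LinearMap.add_apply, mul_comm P, map_mul, Module.End.mul_apply, hPv, map_zero, add_zero]
  have hW : LinearMap.range φ ≤ (LinearMap.range φ).comap f := by
    rintro _ ⟨g, rfl⟩
    refine ⟨⟨(X * g.1) %ₘ P, hmod _⟩, ?_⟩
    rw [← hev, map_mul, aeval_X, Module.End.mul_apply, hφ]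
  refine ⟨LinearMap.range φ, hW, ?_⟩
  set R : Module.End F (LinearMap.range φ) := f.restrict hW
  have hres : ∀ (g : F[X]) (w : LinearMap.range φ), ((aeval R g w : LinearMap.range φ) : V) = aeval f g w.1 := by
    intro g
    induction g using Polynomial.induction_on' with
    | add a b ha hb => intro w; simp [ha, hb]
    | monomial k c =>
      intro w
      simp only [aeval_monomial, Module.algebraMap_end_apply, Module.End.mul_apply, Submodule.coe_smul, R,
        Module.End.pow_restrict k hW, LinearMap.restrict_coe_apply]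
  have hR0 : aeval R P = 0 := by
    refine LinearMap.ext fun w => Subtype.ext ?_
    obtain ⟨g, hg⟩ := w.2
    rw [hres, LinearMap.zero_apply, Submodule.coe_zero, ← hg, hφ, ← Module.End.mul_apply, ← map_mul, mul_comm,
      map_mul, Module.End.mul_apply, hPv, map_zero]
  have hdim : Module.finrank F (LinearMap.range φ) = P.natDegree := by
    rw [LinearMap.finrank_range_of_inj hinj, (degreeLTEquiv F P.natDegree).finrank_eq, Module.finrank_fin_fun]
  haveI : Nontrivial (LinearMap.range φ) := Module.nontrivial_of_finrank_pos (R := F) (by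
    rw [hdim]; exact hP.natDegree_pos)
  have hmp : minpoly F R = P := (minpoly.eq_of_irreducible_of_monic hP hR0 hm).symm
  refine (eq_of_monic_of_dvd_of_natDegree_le hm (LinearMap.charpoly_monic R) ?_ ?_)
  · exact hmp.symm.dvd.trans (LinearMap.minpoly_dvd_charpoly R)
  · rw [LinearMap.charpoly_natDegree, hdim]

/-- An invariant subspace carrying a given monic divisor of the characteristic polynomial. -/
theorem exists_invariant {V : Type*} [AddCommGroup V] [Module F V] [FiniteDimensional F V]
    (f : Module.End F V) (t : Multiset F[X]) (ht : ∀ P ∈ t, Irreducible P ∧ P.Monic) (hd : t.prod ∣ f.charpoly) :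
    ∃ (W : Submodule F V) (hW : W ≤ W.comap f), LinearMap.charpoly (f.restrict hW) = t.prod := by
  induction t using Multiset.induction generalizing V with
  | empty =>
    refine ⟨⊥, bot_le, ?_⟩
    rw [Multiset.prod_zero]
    exact (LinearMap.charpoly_monic _).natDegree_eq_zero.mp (by rw [LinearMap.charpoly_natDegree, finrank_bot])
  | cons P t ih =>
    obtain ⟨hP, hm⟩ := ht P (Multiset.mem_cons_self P t)
    rw [Multiset.prod_cons] at hd ⊢
    obtain ⟨W0, hW0, hc0⟩ := exists_cyclic f hP hm ((dvd_mul_right P t.prod).trans hd)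
    have hcp := charpoly_eq_mul W0 f hW0
    rw [hc0] at hcp
    have hd' : t.prod ∣ (W0.mapQ W0 f hW0).charpoly := (mul_dvd_mul_iff_left hP.ne_zero).mp (hcp ▸ hd)
    obtain ⟨W1, hW1, hc1⟩ := ih (W0.mapQ W0 f hW0) (fun Q hQ => ht Q (Multiset.mem_cons_of_mem hQ)) hd'
    have hW : W1.comap W0.mkQ ≤ (W1.comap W0.mkQ).comap f := fun x hx => hW1 hx
    refine ⟨_, hW, ?_⟩
    have hsub : W0 ≤ W1.comap W0.mkQ := fun x hx => by
      rw [Submodule.mem_comap, Submodule.mkQ_apply, (Submodule.Quotient.mk_eq_zero W0).mpr hx]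
      exact W1.zero_mem
    let R : Module.End F ↥(W1.comap W0.mkQ) := f.restrict hW
    show LinearMap.charpoly R = _
    have hW0' : W0.comap (W1.comap W0.mkQ).subtype ≤ (W0.comap (W1.comap W0.mkQ).subtype).comap R :=
      fun x hx => hW0 hx
    rw [charpoly_eq_mul _ R hW0']
    congr 1
    · rw [← hc0, ← LinearEquiv.charpoly_conj (Submodule.comapSubtypeEquivOfLe hsub) (R.restrict hW0')]
      rfl
    · rw [← hc1]
      let e : (↥(W1.comap W0.mkQ) ⧸ W0.comap (W1.comap W0.mkQ).subtype) ≃ₗ[F] W1 := LinearEquiv.ofBijective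
        (Submodule.liftQ _ ((W0.mkQ.comp (W1.comap W0.mkQ).subtype).codRestrict W1 fun x => x.2) (fun x hx => by
          rw [LinearMap.mem_ker]
          exact Subtype.ext ((Submodule.Quotient.mk_eq_zero W0).mpr hx)))
        ⟨by
          rw [← LinearMap.ker_eq_bot, Submodule.ker_liftQ_eq_bot']
          ext x
          exact ⟨fun hx => LinearMap.mem_ker.mpr (Subtype.ext ((Submodule.Quotient.mk_eq_zero W0).mpr hx)),
            fun hx => (Submodule.Quotient.mk_eq_zero W0).mp (congrArg Subtype.val (LinearMap.mem_ker.mp hx))⟩, fun y => by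
          obtain ⟨x, hx⟩ := W0.mkQ_surjective y.1
          exact ⟨Submodule.Quotient.mk ⟨x, by rw [Submodule.mem_comap, hx]; exact y.2⟩, Subtype.ext hx⟩⟩
      rw [← LinearEquiv.charpoly_conj e]
      congr 1
      refine LinearMap.ext fun y => ?_
      obtain ⟨z, rfl⟩ := e.surjective y
      obtain ⟨x, rfl⟩ := Submodule.Quotient.mk_surjective _ z
      rw [LinearEquiv.conj_apply_apply, LinearEquiv.symm_apply_apply]
      rfl

end CfsgLib.SubElusive
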