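import Cfsg.Agent.SubElusive.Basic
import Cfsg.Agent.SubElusive.Count
import Cfsg.Agent.PrimeClasses.PGL

/-!
Elements of prime order modulo scalars in `SL_n` and their invariant subspaces.
-/

set_option autoImplicit false
set_option linter.style.haveILetI false

namespace CfsgLib.SubElusive

open Polynomial UniqueFactorizationMonoid

variable {F : Type*} [Field F]

section Factors

open scoped Classical

theorem nf_spec {D : F[X]} (hD : D.Monic) :
    (∀ P ∈ normalizedFactors D, Irreducible P ∧ P.Monic ∧ P ∣ D) ∧ (normalizedFactors D).prod = D := by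
  have h1 : ∀ P ∈ normalizedFactors D, Irreducible P ∧ P.Monic ∧ P ∣ D := fun P hP => by
    obtain ⟨hi, hn, hd⟩ := (mem_normalizedFactors_iff' hD.ne_zero).mp hP
    exact ⟨hi, hn ▸ monic_normalize hi.ne_zero, hd⟩
  refine ⟨h1, eq_of_monic_of_associated ?_ hD (prod_normalizedFactors hD.ne_zero)⟩
  simpa using monic_multiset_prod_of_monic (normalizedFactors D) id fun P hP => (h1 P hP).2.1

theorem deg_prod {i : ℕ} {one : F[X]} (h1 : one.natDegree = 1) (s : Multiset F[X]) (hm : ∀ P ∈ s, P.Monic)
    (hs : ∀ P ∈ s, P = one ∨ P.natDegree = i) :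
    s.prod.natDegree = s.count one + i * (Multiset.card s - s.count one) := by
  induction s using Multiset.induction with
  | empty => simp
  | cons P s ih =>
    have ih' := ih (fun Q hQ => hm Q (Multiset.mem_cons_of_mem hQ)) fun Q hQ => hs Q (Multiset.mem_cons_of_mem hQ)
    have hle := Multiset.count_le_card one s
    rw [Multiset.prod_cons, Monic.natDegree_mul (hm P (Multiset.mem_cons_self P s))
      (by simpa using monic_multiset_prod_of_monic s id fun Q hQ => hm Q (Multiset.mem_cons_of_mem hQ)), ih',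
      Multiset.card_cons]
    by_cases h : P = one
    · subst h
      rw [Multiset.count_cons_self, h1, Nat.add_sub_add_right]
      omega
    · rw [Multiset.count_cons_of_ne (Ne.symm h), (hs P (Multiset.mem_cons_self P s)).resolve_left h,
        show Multiset.card s + 1 - s.count one = (Multiset.card s - s.count one) + 1 by omega, mul_add, mul_one]
      omega

theorem exists_sub {α : Type*} [DecidableEq α] (s : Multiset α) (one : α) {a b : ℕ} (ha : a ≤ s.count one)
    (hb : b ≤ Multiset.card s - s.count one) : ∃ t ≤ s, t.count one = a ∧ Multiset.card t = a + b := by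
  set rest := s.filter (fun x => ¬ one = x) with hrest
  have hsplit : Multiset.replicate (s.count one) one + rest = s := by
    rw [← Multiset.filter_eq, Multiset.filter_add_not]
  have hcard : Multiset.card rest = Multiset.card s - s.count one := by
    have := congrArg Multiset.card hsplit
    rw [Multiset.card_add, Multiset.card_replicate] at this
    omega
  have hsub : (↑(rest.toList.take b) : Multiset α) ≤ rest := by
    conv_rhs => rw [← Multiset.coe_toList rest]
    exact Multiset.coe_le.mpr (List.take_sublist _ _).subperm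
  refine ⟨Multiset.replicate a one + ↑(rest.toList.take b), ?_, ?_, ?_⟩
  · rw [← hsplit]
    exact add_le_add (Multiset.replicate_le_replicate one |>.mpr ha) hsub
  · rw [Multiset.count_add, Multiset.count_replicate_self, Multiset.count_eq_zero.mpr fun h => ?_, add_zero]
    exact (Multiset.mem_filter.mp (Multiset.mem_of_le hsub h)).2 rfl
  · rw [Multiset.card_add, Multiset.card_replicate, Multiset.coe_card, List.length_take, Multiset.length_toList,
      hcard, min_eq_left hb]

variable {V : Type*} [AddCommGroup V] [Module F V] [FiniteDimensional F V]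

/-- Nested invariant subspaces from nested sets of factors. -/
theorem chain_of_multiset (f : Module.End F V) {t1 t2 : Multiset F[X]} (h12 : t1 ≤ t2)
    (h2 : t2 ≤ normalizedFactors f.charpoly) :
    ∃ U W : Submodule F V, U ≤ W ∧ U.map f ≤ U ∧ W.map f ≤ W ∧
      Module.finrank F U = t1.prod.natDegree ∧ Module.finrank F W = t2.prod.natDegree := by
  obtain ⟨hmem, hprod⟩ := nf_spec (LinearMap.charpoly_monic f)
  have ht2 : ∀ P ∈ t2, Irreducible P ∧ P.Monic := fun P hP =>
    ⟨(hmem P (Multiset.mem_of_le h2 hP)).1, (hmem P (Multiset.mem_of_le h2 hP)).2.1⟩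
  obtain ⟨W, hW, hcW⟩ := exists_invariant f t2 ht2 ((Multiset.prod_dvd_prod_of_le h2).trans hprod.dvd)
  obtain ⟨U, hU, hcU⟩ := exists_invariant (f.restrict hW) t1 (fun P hP => ht2 P (Multiset.mem_of_le h12 hP))
    (hcW ▸ Multiset.prod_dvd_prod_of_le h12)
  refine ⟨U.map W.subtype, W, Submodule.map_subtype_le W U, ?_, Submodule.map_le_iff_le_comap.mpr hW, ?_, ?_⟩
  · rintro _ ⟨_, ⟨u, hu, rfl⟩, rfl⟩
    exact ⟨_, hU hu, rfl⟩
  · rw [Submodule.finrank_map_subtype_eq, ← hcU, LinearMap.charpoly_natDegree]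
  · rw [← hcW, LinearMap.charpoly_natDegree]

/-- The factors seen by nested invariant subspaces. -/
theorem multiset_of_chain (f : Module.End F V) (U W : Submodule F V) (hUW : U ≤ W) (hU : U.map f ≤ U)
    (hW : W.map f ≤ W) :
    ∃ s1 s2 s3 : Multiset F[X], s1 + s2 + s3 = normalizedFactors f.charpoly ∧
      s1.prod.natDegree = Module.finrank F U ∧ s3.prod.natDegree = Module.finrank F V - Module.finrank F W := by
  have hW' : W ≤ W.comap f := Submodule.map_le_iff_le_comap.mp hW
  let R : Module.End F W := f.restrict hW'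
  have hU' : U.comap W.subtype ≤ (U.comap W.subtype).comap R := fun x hx =>
    Submodule.map_le_iff_le_comap.mp hU hx
  have h1 := charpoly_eq_mul W f hW'
  have h2 := charpoly_eq_mul _ R hU'
  refine ⟨normalizedFactors (LinearMap.charpoly (R.restrict hU')),
    normalizedFactors ((U.comap W.subtype).mapQ _ R hU').charpoly, normalizedFactors (W.mapQ W f hW').charpoly, ?_, ?_, ?_⟩
  · rw [h1, normalizedFactors_mul (LinearMap.charpoly_monic _).ne_zero (LinearMap.charpoly_monic _).ne_zero,
      show LinearMap.charpoly (f.restrict hW') = R.charpoly from rfl, h2,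
      normalizedFactors_mul (LinearMap.charpoly_monic _).ne_zero (LinearMap.charpoly_monic _).ne_zero]
  · rw [(nf_spec (LinearMap.charpoly_monic _)).2, LinearMap.charpoly_natDegree,
      (Submodule.comapSubtypeEquivOfLe hUW).finrank_eq]
  · rw [(nf_spec (LinearMap.charpoly_monic _)).2, LinearMap.charpoly_natDegree, Submodule.finrank_quotient]

end Factors

/-- Being a power in the units of a finite field. -/
theorem not_pow_order [Fintype F] {r : ℕ} (hr : r.Prime) {c : Fˣ} (hc : ∀ d : Fˣ, d ^ r ≠ c)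
    (hrq : r ∣ Fintype.card F - 1) {N : ℕ} (hN : N ≠ 0) (h : c ^ N = 1) :
    padicValNat r (Fintype.card F - 1) ≤ padicValNat r N := by
  classical
  haveI := Fact.mk hr
  have hq : Nat.card Fˣ = Fintype.card F - 1 := by rw [Nat.card_units, Nat.card_eq_fintype_card]
  have ho := orderOf_dvd_natCard c
  rw [hq] at ho
  obtain ⟨s, hs⟩ := ho
  have hq0 : Fintype.card F - 1 ≠ 0 := by have := Fintype.one_lt_card (α := F); omega
  have hrs : ¬ r ∣ s := by
    rintro ⟨s', rfl⟩
    obtain ⟨g, hg⟩ := IsCyclic.exists_generator (α := Fˣ)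
    obtain ⟨k, hk⟩ := (mem_powers_iff_mem_zpowers.mpr (hg c))
    obtain ⟨u, hu⟩ : r ∣ k := by
      have h1 : g ^ (k * orderOf c) = 1 := by rw [pow_mul, show g ^ k = c from hk, pow_orderOf_eq_one]
      have h2 := orderOf_dvd_of_pow_eq_one h1
      rw [orderOf_eq_card_of_forall_mem_zpowers hg, hq, hs, mul_comm k] at h2
      have h3 := Nat.dvd_of_mul_dvd_mul_left (orderOf_pos c) h2
      exact (dvd_mul_right r s').trans h3
    exact hc (g ^ u) (by rw [← pow_mul, mul_comm, ← hu]; exact hk)
  have h1 : padicValNat r (Fintype.card F - 1) = padicValNat r (orderOf c) := by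
    rw [hs, padicValNat.mul (orderOf_pos c).ne' (fun h0 => hrs (by rw [h0]; exact dvd_zero r)),
      padicValNat.eq_zero_of_not_dvd hrs, add_zero]
  rw [h1]
  obtain ⟨w, hw⟩ := orderOf_dvd_of_pow_eq_one h
  rw [hw, padicValNat.mul (orderOf_pos c).ne' (fun h0 => hN (by rw [hw, h0, mul_zero]))]
  omega

variable [Fintype F] {p n r : ℕ} [Fact p.Prime] [CharP F p] [hr : Fact r.Prime]

theorem r_dvd_sub_iff : r ∣ Fintype.card F - 1 ↔ orderOf (Fintype.card F : ZMod r) = 1 := by
  rw [orderOf_eq_one_iff, ← ZMod.natCast_eq_zero_iff, Nat.cast_sub Fintype.card_pos, Nat.cast_one, sub_eq_zero]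

omit [Fintype F] in
theorem r_ne_zero (hrp : r ≠ p) : (r : F) ≠ 0 := fun h =>
  hrp ((Nat.prime_dvd_prime_iff_eq (Fact.out : p.Prime) hr.out).mp ((CharP.cast_eq_zero_iff F p r).mp h)).symm

/-- Positive direction for an element whose `r`-th power is an `r`-th power of a scalar. -/
theorem chain_split (hrp : r ≠ p) (M : Matrix (Fin n) (Fin n) F) {d : F} (hd : d ≠ 0)
    (hM : M ^ r = d ^ r • (1 : Matrix (Fin n) (Fin n) F)) {m m' : ℕ}
    (hchoice : ∀ e k, e + orderOf (Fintype.card F : ZMod r) * k = n →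
      ∃ a b a' b', a + orderOf (Fintype.card F : ZMod r) * b = m ∧ a' + orderOf (Fintype.card F : ZMod r) * b' = m' ∧
        a + a' ≤ e ∧ b + b' ≤ k) :
    ∃ U W : Submodule F (Fin n → F), U ≤ W ∧ Module.finrank F U = m ∧ Module.finrank F W = n - m' ∧
      U.map (Matrix.toLin' M) ≤ U ∧ W.map (Matrix.toLin' M) ≤ W := by
  classical
  set i := orderOf (Fintype.card F : ZMod r)
  obtain ⟨S, hS1, hS2, -, -⟩ := CfsgLib.PrimeClasses.exists_factors (F := F) hr.out hrp
  set M' := d⁻¹ • M
  have hM' : M' ^ r = 1 := by rw [_root_.smul_pow, hM, smul_smul, ← mul_pow, inv_mul_cancel₀ hd, one_pow, one_smul]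
  set f : Module.End F (Fin n → F) := Matrix.toLin' M'
  have hcf : f.charpoly = M'.charpoly := by rw [← LinearMap.charpoly_toMatrix f (Pi.basisFun F (Fin n)),
    LinearMap.toMatrix_eq_toMatrix', LinearMap.toMatrix'_toLin']
  set s := normalizedFactors f.charpoly
  obtain ⟨hmem, hprod⟩ := nf_spec (LinearMap.charpoly_monic f)
  have hs : ∀ P ∈ s, P = X - C 1 ∨ P.natDegree = i := fun P hP => by
    obtain ⟨hi, hm, hd'⟩ := hmem P hP
    have h1 : aeval M' (X ^ r - 1 : F[X]) = 0 := by rw [map_sub, map_pow, aeval_X, map_one, hM', sub_self]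
    rcases hS2 P hm hi (dvd_of_matrix_aeval_eq_zero M' hi (hcf ▸ hd') h1) with h | h
    · exact Or.inl h
    · exact Or.inr (hS1 P h).2.2.1
  have hn' : s.count (X - C 1) + i * (Multiset.card s - s.count (X - C 1)) = n := by
    rw [← deg_prod (natDegree_X_sub_C 1) s (fun P hP => (hmem P hP).2.1) hs, hprod, LinearMap.charpoly_natDegree,
      Module.finrank_fin_fun]
  obtain ⟨a, b, a', b', ha, ha', hae, hbk⟩ := hchoice _ _ hn'
  set e := s.count (X - C 1)
  set k := Multiset.card s - e
  obtain ⟨t2, ht2, hc2, hk2⟩ := exists_sub s (X - C 1) (a := e - a') (b := k - b') (by omega) (by omega)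
  obtain ⟨t1, ht1, hc1, hk1⟩ := exists_sub t2 (X - C 1) (a := a) (b := b) (by omega) (by omega)
  obtain ⟨U, W, hUW, hUi, hWi, hUd, hWd⟩ := chain_of_multiset f ht1 ht2
  have hdeg : ∀ t ≤ s, t.prod.natDegree = t.count (X - C 1) + i * (Multiset.card t - t.count (X - C 1)) :=
    fun t ht => deg_prod (natDegree_X_sub_C 1) t (fun P hP => (hmem P (Multiset.mem_of_le ht hP)).2.1)
      fun P hP => hs P (Multiset.mem_of_le ht hP)
  have hinv : ∀ Y : Submodule F (Fin n → F), Y.map f ≤ Y → Y.map (Matrix.toLin' M) ≤ Y := by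
    rintro Y hY _ ⟨y, hy, rfl⟩
    have h := Y.smul_mem d (hY ⟨y, hy, rfl⟩)
    rwa [show f y = d⁻¹ • Matrix.toLin' M y from by simp only [f, M', map_smul, LinearMap.smul_apply], smul_smul,
      mul_inv_cancel₀ hd, one_smul] at h
  refine ⟨U, W, hUW, ?_, ?_, hinv U hUi, hinv W hWi⟩
  · rw [hUd, hdeg t1 (ht1.trans ht2), hc1, hk1, Nat.add_sub_cancel_left, ha]
  · rw [hWd, hdeg t2 ht2, hc2, hk2, Nat.add_sub_cancel_left]
    have h : i * (k - b') = i * k - i * b' := Nat.mul_sub i k b'
    have h' : i * b' ≤ i * k := Nat.mul_le_mul_left i (by omega)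
    omega

/-- Positive direction when the `r`-th power is not the power of a scalar. -/
theorem nonsplit (M : Matrix (Fin n) (Fin n) F) {c : F} (hc : ∀ d : F, d ^ r ≠ c)
    (hM : M ^ r = c • (1 : Matrix (Fin n) (Fin n) F)) :
    r ∣ n ∧ M.charpoly = (X ^ r - C c) ^ (n / r) ∧
    (∀ U : Submodule F (Fin n → F), U.map (Matrix.toLin' M) ≤ U → r ∣ Module.finrank F U) ∧
    (∀ m m', r ∣ m → r ∣ m' → m ≤ m' → m' ≤ n → ∃ U W : Submodule F (Fin n → F), U ≤ W ∧ Module.finrank F U = m ∧
      Module.finrank F W = m' ∧ U.map (Matrix.toLin' M) ≤ U ∧ W.map (Matrix.toLin' M) ≤ W) := by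
  classical
  set f : Module.End F (Fin n → F) := Matrix.toLin' M
  have hcf : f.charpoly = M.charpoly := by rw [← LinearMap.charpoly_toMatrix f (Pi.basisFun F (Fin n)),
    LinearMap.toMatrix_eq_toMatrix', LinearMap.toMatrix'_toLin']
  set s := normalizedFactors f.charpoly
  obtain ⟨hmem, hprod⟩ := nf_spec (LinearMap.charpoly_monic f)
  have hirr : Irreducible (X ^ r - C c) := X_pow_sub_C_irreducible_of_prime hr.out hc
  have hs : ∀ P ∈ s, P = X ^ r - C c := fun P hP => by
    obtain ⟨hi, hm, hd⟩ := hmem P hP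
    refine eq_of_monic_of_associated hm (monic_X_pow_sub_C _ hr.out.ne_zero) (hi.associated_of_dvd hirr ?_)
    refine dvd_of_matrix_aeval_eq_zero M hi (hcf ▸ hd) ?_
    rw [map_sub, map_pow, aeval_X, aeval_C, hM, Algebra.algebraMap_eq_smul_one, sub_self]
  set K := Multiset.card s
  have hsK : s = Multiset.replicate K (X ^ r - C c) := Multiset.eq_replicate_card.mpr hs
  have hdeg : ∀ j, (Multiset.replicate j (X ^ r - C c : F[X])).prod.natDegree = j * r := fun j => by
    rw [Multiset.prod_replicate, natDegree_pow, natDegree_X_pow_sub_C]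
  have hn : n = K * r := by
    rw [← hdeg, ← hsK, hprod, LinearMap.charpoly_natDegree, Module.finrank_fin_fun]
  have hK : n / r = K := by rw [hn, Nat.mul_div_cancel _ hr.out.pos]
  refine ⟨⟨K, by rw [hn, mul_comm]⟩, ?_, fun U hU => ?_, fun m m' hm hm' hle hle' => ?_⟩
  · rw [← hcf, ← hprod, hK]
    exact (congrArg Multiset.prod hsK).trans (Multiset.prod_replicate _ _)
  · obtain ⟨s1, s2, s3, h, h1, -⟩ := multiset_of_chain f U U le_rfl hU hU
    have hs1 : s1 = Multiset.replicate (Multiset.card s1) (X ^ r - C c) :=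
      Multiset.eq_replicate_card.mpr fun P hP => hs P (by
        show P ∈ normalizedFactors f.charpoly
        rw [← h]; exact Multiset.mem_add.mpr (Or.inl (Multiset.mem_add.mpr (Or.inl hP))))
    rw [← h1, hs1, hdeg]
    exact dvd_mul_left r _
  · obtain ⟨a, rfl⟩ := hm
    obtain ⟨b, rfl⟩ := hm'
    have hab : a ≤ b := Nat.le_of_mul_le_mul_left hle hr.out.pos
    have hbK : b ≤ K := Nat.le_of_mul_le_mul_left (hle'.trans (by rw [hn, mul_comm])) hr.out.pos
    obtain ⟨U, W, h1, h2, h3, h4, h5⟩ := chain_of_multiset f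
      ((Multiset.replicate_le_replicate _).mpr hab : Multiset.replicate a (X ^ r - C c) ≤ Multiset.replicate b _)
      (show _ ≤ s by rw [hsK]; exact (Multiset.replicate_le_replicate _).mpr hbK)
    exact ⟨U, W, h1, by rw [h4, hdeg, mul_comm], by rw [h5, hdeg, mul_comm], h2, h3⟩

/-- The determinant condition on a nonsplit element. -/
theorem det_nonsplit {M : Matrix (Fin n) (Fin n) F} {c : F} {k : ℕ} (hk : n = k * r)
    (hc : M.charpoly = (X ^ r - C c) ^ k) : M.det = ((-1) ^ (r + 1) * c) ^ k := by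
  rw [Matrix.det_eq_sign_charpoly_coeff, hc, Fintype.card_fin, coeff_zero_eq_eval_zero, eval_pow, eval_sub, eval_pow,
    eval_X, eval_C, zero_pow hr.out.ne_zero, zero_sub, hk, mul_comm k, pow_mul, ← mul_pow, pow_succ]
  ring

/-- The extreme element when `r` does not divide `q - 1`. -/
theorem exists_witness_split (hrp : r ≠ p) (hi : 2 ≤ orderOf (Fintype.card F : ZMod r))
    (hin : orderOf (Fintype.card F : ZMod r) ≤ n) :
    ∃ x : Matrix.SpecialLinearGroup (Fin n) F, (x : Matrix (Fin n) (Fin n) F) ^ r = 1 ∧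
      (∀ c : F, (x : Matrix (Fin n) (Fin n) F) ≠ c • (1 : Matrix (Fin n) (Fin n) F)) ∧
      ∀ U W : Submodule F (Fin n → F), U ≤ W → U.map (Matrix.toLin' (x : Matrix (Fin n) (Fin n) F)) ≤ U →
        W.map (Matrix.toLin' (x : Matrix (Fin n) (Fin n) F)) ≤ W →
        Module.finrank F U % orderOf (Fintype.card F : ZMod r) +
          (n - Module.finrank F W) % orderOf (Fintype.card F : ZMod r) ≤ n % orderOf (Fintype.card F : ZMod r) := by
  classical
  set i := orderOf (Fintype.card F : ZMod r)
  obtain ⟨S, hS1, -, hS3, hS4⟩ := CfsgLib.PrimeClasses.exists_factors (F := F) hr.out hrp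
  have hi2 : i ∣ r - 1 := by
    refine orderOf_dvd_of_pow_eq_one (ZMod.pow_card_sub_one_eq_one fun h0 => ?_)
    have : i = 0 := by simp [i, h0]
    omega
  obtain ⟨P, hP⟩ : S.Nonempty := Finset.card_pos.mp (by
    rw [hS4]
    exact Nat.div_pos (Nat.le_of_dvd (by have := hr.out.two_le; omega) hi2) (by omega))
  obtain ⟨hPm, hPi, hPd, hP1⟩ := hS1 P hP
  have hP0 : ∀ c : F, P ≠ X - C c := fun c h => by
    have := congrArg natDegree h
    rw [hPd, natDegree_X_sub_C] at this
    omega
  set Q : F[X] := (X - C 1) ^ (n % i) * P ^ (n / i) with hQ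
  have hQm : Q.Monic := ((monic_X_sub_C 1).pow _).mul (hPm.pow _)
  have hQd : Q.natDegree = n := by
    rw [hQ, ((monic_X_sub_C 1).pow _).natDegree_mul (hPm.pow _), natDegree_pow, natDegree_X_sub_C, mul_one,
      natDegree_pow, hPd, mul_comm (n / i), Nat.mod_add_div]
  have hP00 : P.eval 0 ≠ 0 := fun h => hP0 0 (eq_of_monic_of_associated hPm (monic_X_sub_C 0)
    ((irreducible_X_sub_C 0).associated_of_dvd hPi (dvd_iff_isRoot.mpr h)).symm)
  obtain ⟨g, hg, hgc⟩ := Cfsg.Agent.H29.Semisimple.exists_matrix (n := n) p Q hQm hQd (by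
    rw [hQ, eval_mul, eval_pow, eval_pow, eval_sub, eval_X, eval_C, zero_sub]
    exact mul_ne_zero (pow_ne_zero _ (neg_ne_zero.mpr one_ne_zero)) (pow_ne_zero _ hP00))
  set M := (g : Matrix (Fin n) (Fin n) F)
  have hdvd : ∀ R : F[X], Irreducible R → R.Monic → R ∣ M.charpoly → R = X - C 1 ∨ R = P := by
    intro R hR hRm hd
    rw [hgc, hQ] at hd
    rcases hR.prime.dvd_or_dvd hd with h | h
    · exact Or.inl (eq_of_monic_of_associated hRm (monic_X_sub_C 1)
        (hR.associated_of_dvd (irreducible_X_sub_C 1) (hR.prime.dvd_of_dvd_pow h)))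
    · exact Or.inr (eq_of_monic_of_associated hRm hPm (hR.associated_of_dvd hPi (hR.prime.dvd_of_dvd_pow h)))
  have hgr : g ^ r = 1 := by
    refine CfsgLib.PrimeClasses.pow_eq_one_of_factors (p := p) (r_ne_zero hrp) g hg fun R hR hd => ?_
    rw [← (normalize_associated R).dvd_iff_dvd_left]
    rcases hdvd (normalize R) ((normalize_associated R).symm.irreducible hR) (monic_normalize hR.ne_zero)
      ((normalize_associated R).dvd_iff_dvd_left.mpr hd) with h | h
    · rw [h, C_1]; exact sub_one_dvd_pow_sub_one X r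
    · rw [h]; exact hS3 P hP
  have hdet : M.det = 1 := by
    set u : Fˣ := Matrix.GeneralLinearGroup.det g with hu
    have h1 : orderOf u ∣ r := orderOf_dvd_of_pow_eq_one (by rw [hu, ← map_pow, hgr, map_one])
    have h2 : u = 1 := orderOf_eq_one_iff.mp (((Nat.dvd_prime hr.out).mp h1).resolve_right fun h => by
      have h3 := orderOf_dvd_natCard u
      rw [h, Nat.card_units, Nat.card_eq_fintype_card] at h3
      have := r_dvd_sub_iff.mp h3
      omega)
    have := congrArg Units.val h2
    rwa [hu, Matrix.GeneralLinearGroup.val_det_apply, Units.val_one] at this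
  refine ⟨⟨M, hdet⟩, ?_, fun c hc => ?_, fun U W hUW hU hW => ?_⟩
  · show M ^ r = 1
    rw [show M ^ r = ((g ^ r : GL (Fin n) F) : Matrix (Fin n) (Fin n) F) from (Units.val_pow_eq_pow_val _ _).symm, hgr,
      Units.val_one]
  · change M = c • (1 : Matrix (Fin n) (Fin n) F) at hc
    have h1 : P ∣ M.charpoly := by
      rw [hgc, hQ]
      exact dvd_mul_of_dvd_right (dvd_pow_self P (Nat.div_pos hin (by omega)).ne') _
    rw [hc, Matrix.smul_one_eq_diagonal, Matrix.charpoly_diagonal, Finset.prod_const] at h1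
    exact hP0 c (eq_of_monic_of_associated hPm (monic_X_sub_C c)
      (hPi.associated_of_dvd (irreducible_X_sub_C c) (hPi.prime.dvd_of_dvd_pow h1)))
  · set f : Module.End F (Fin n → F) := Matrix.toLin' M
    have hcf : f.charpoly = M.charpoly := by rw [← LinearMap.charpoly_toMatrix f (Pi.basisFun F (Fin n)),
      LinearMap.toMatrix_eq_toMatrix', LinearMap.toMatrix'_toLin']
    obtain ⟨s1, s2, s3, h, h1, h3⟩ := multiset_of_chain f U W hUW hU hW
    obtain ⟨hmem, -⟩ := nf_spec (LinearMap.charpoly_monic f)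
    have hcount : (normalizedFactors f.charpoly).count (X - C 1) = n % i := by
      rw [hcf, hgc, hQ, normalizedFactors_mul (pow_ne_zero _ (X_sub_C_ne_zero 1)) (pow_ne_zero _ hPi.ne_zero),
        normalizedFactors_pow, normalizedFactors_pow, normalizedFactors_irreducible (irreducible_X_sub_C 1),
        normalizedFactors_irreducible hPi, (monic_X_sub_C 1).normalize_eq_self, hPm.normalize_eq_self,
        Multiset.count_add, Multiset.count_nsmul, Multiset.count_nsmul, Multiset.count_singleton_self,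
        Multiset.count_singleton, if_neg (hP0 1).symm, mul_one, mul_zero, add_zero]
    have hmod : ∀ t ≤ normalizedFactors f.charpoly, t.prod.natDegree % i ≤ t.count (X - C 1) := fun t ht => by
      rw [deg_prod (natDegree_X_sub_C 1) t (fun R hR => (hmem R (Multiset.mem_of_le ht hR)).2.1) (i := i) (fun R hR => by
          obtain ⟨hi', hm', hd'⟩ := hmem R (Multiset.mem_of_le ht hR)
          exact (hdvd R hi' hm' (hcf ▸ hd')).imp id fun h' => by rw [h']; exact hPd), Nat.add_mul_mod_self_left]
      exact Nat.mod_le _ _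
    have e1 := hmod s1 (h ▸ (le_add_right (le_add_right le_rfl)))
    have e3 := hmod s3 (h ▸ le_add_left le_rfl)
    rw [h1] at e1
    rw [h3, Module.finrank_fin_fun] at e3
    have := congrArg (Multiset.count (X - C 1)) h
    rw [Multiset.count_add, Multiset.count_add, hcount] at this
    omega

/-- A nonsplit element with given scalar. -/
theorem exists_witness_nonsplit (hn : 0 < n) (hrp : r ≠ p) {c : F} (hc : ∀ d : F, d ^ r ≠ c) (hrn : r ∣ n)
    (hdet : ((-1) ^ (r + 1) * c) ^ (n / r) = 1) :
    ∃ x : Matrix.SpecialLinearGroup (Fin n) F, (x : Matrix (Fin n) (Fin n) F) ^ r = c • (1 : Matrix (Fin n) (Fin n) F) ∧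
      ∀ d : F, (x : Matrix (Fin n) (Fin n) F) ≠ d • (1 : Matrix (Fin n) (Fin n) F) := by
  have hc0 : c ≠ 0 := fun h => hc 0 (by rw [h, zero_pow hr.out.ne_zero])
  obtain ⟨g, hg, hgc⟩ := Cfsg.Agent.H29.Semisimple.exists_matrix (n := n) p ((X ^ r - C c) ^ (n / r))
    ((monic_X_pow_sub_C _ hr.out.ne_zero).pow _) (by rw [natDegree_pow, natDegree_X_pow_sub_C, Nat.div_mul_cancel hrn])
    (by simp [zero_pow hr.out.ne_zero, hc0])
  have hM : (g : Matrix (Fin n) (Fin n) F) ^ r = c • (1 : Matrix (Fin n) (Fin n) F) := by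
    rw [← Algebra.algebraMap_eq_smul_one]
    refine CfsgLib.PrimeClasses.pow_eq_scalar_of_factors (r_ne_zero hrp) hc0 g hg fun P hP hd => ?_
    rw [hgc] at hd
    exact hP.prime.dvd_of_dvd_pow hd
  have hd1 : (g : Matrix (Fin n) (Fin n) F).det = 1 := by
    rw [det_nonsplit (Nat.div_mul_cancel hrn).symm hgc]; exact hdet
  refine ⟨⟨_, hd1⟩, hM, fun d hd => ?_⟩
  change (g : Matrix (Fin n) (Fin n) F) = d • (1 : Matrix (Fin n) (Fin n) F) at hd
  rw [hd, _root_.smul_pow, one_pow] at hM
  haveI : Nonempty (Fin n) := ⟨⟨0, hn⟩⟩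
  exact hc d (smul_left_injective F (one_ne_zero : (1 : Matrix (Fin n) (Fin n) F) ≠ 0) hM)

end CfsgLib.SubElusive
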