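import Mathlib
import Cfsg.Agent.SubElusive.Cases
import Cfsg.Agent.H29.SemisimpleCount
import Cfsg.Agent.PrimeClasses.GL
import Cfsg.Prelude.Def_GeometricClasses

/-!
Elements of odd prime order with a non-symmetric spectrum: witnesses and the symmetric exceptions.
-/

set_option autoImplicit false
set_option linter.style.haveILetI false

namespace CfsgLib.SubElusive

open Polynomial
open scoped Matrix

variable {F : Type*} [Field F] {n : ℕ}

local notation "Mat" => Matrix (Fin n) (Fin n) F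

/-- `x` is a similitude of the sesquilinear form with Gram matrix `G`. -/
def GramSim (σ : F →+* F) (G x : Mat) (μ : F) : Prop := xᵀ * G * x.map σ = μ • G

theorem gramSim_pull {σ : F →+* F} {G x y R : Mat} {μ : F} (h : GramSim σ G y μ) (hR : R * x = y * R) :
    GramSim σ (Rᵀ * G * R.map σ) x μ := by
  unfold GramSim at h ⊢
  have h1 : xᵀ * Rᵀ = Rᵀ * yᵀ := by rw [← Matrix.transpose_mul, hR, Matrix.transpose_mul]
  have h2 : R.map σ * x.map σ = y.map σ * R.map σ := by rw [← Matrix.map_mul, hR, Matrix.map_mul]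
  calc xᵀ * (Rᵀ * G * R.map σ) * x.map σ = (xᵀ * Rᵀ) * G * (R.map σ * x.map σ) := by simp only [Matrix.mul_assoc]
    _ = Rᵀ * (yᵀ * G * y.map σ) * R.map σ := by rw [h1, h2]; simp only [Matrix.mul_assoc]
    _ = μ • (Rᵀ * G * R.map σ) := by rw [h, Matrix.mul_smul, Matrix.smul_mul]

theorem form_eq_gram {σ : F →+* F} (f : (Fin n → F) → (Fin n → F) → F)
    (h1 : ∀ x y v, f (x + y) v = f x v + f y v) (h2 : ∀ (c : F) x v, f (c • x) v = c * f x v)
    (h3 : ∀ v x y, f v (x + y) = f v x + f v y) (h4 : ∀ (c : F) v x, f v (c • x) = σ c * f v x) (u v : Fin n → F) :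
    f u v = u ⬝ᵥ (Matrix.of (fun i j => f (Pi.single i 1) (Pi.single j 1)) *ᵥ (σ ∘ v)) := by
  let φ : (Fin n → F) → (Fin n → F) →+ F := fun w => AddMonoidHom.mk' (fun z => f w z) (h3 w)
  let ψ : (Fin n → F) → (Fin n → F) →+ F := fun w => AddMonoidHom.mk' (fun z => f z w) (fun a b => h1 a b w)
  have hv : ∀ w, f w v = ∑ j, σ (v j) * f w (Pi.single j 1) := fun w => by
    have := map_sum (φ w) (fun j => (v j) • (Pi.single j (1 : F) : Fin n → F)) Finset.univ
    rw [← pi_eq_sum_univ' v] at this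
    exact this.trans (Finset.sum_congr rfl fun j _ => h4 _ _ _)
  have hu : f u v = ∑ i, u i * f (Pi.single i 1) v := by
    have := map_sum (ψ v) (fun i => (u i) • (Pi.single i (1 : F) : Fin n → F)) Finset.univ
    rw [← pi_eq_sum_univ' u] at this
    exact this.trans (Finset.sum_congr rfl fun i _ => h2 _ _ _)
  rw [hu]
  simp only [dotProduct, Matrix.mulVec, Matrix.of_apply, Function.comp_apply]
  refine Finset.sum_congr rfl fun i _ => ?_
  rw [hv]
  congr 1
  exact Finset.sum_congr rfl fun j _ => mul_comm _ _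

theorem gramSim_iff {σ : F →+* F} (f : (Fin n → F) → (Fin n → F) → F) (G : Mat)
    (hf : ∀ u v, f u v = u ⬝ᵥ (G *ᵥ (σ ∘ v))) (g : Mat) (μ : F) :
    (∀ u v, f (g *ᵥ u) (g *ᵥ v) = μ * f u v) ↔ GramSim σ G g μ := by
  have e : ∀ u v, f (g *ᵥ u) (g *ᵥ v) = u ⬝ᵥ ((gᵀ * G * g.map σ) *ᵥ (σ ∘ v)) := fun u v => by
    rw [hf, show σ ∘ (g *ᵥ v) = g.map σ *ᵥ (σ ∘ v) from funext fun i => RingHom.map_mulVec σ g v i,
      ← Matrix.vecMul_transpose, ← Matrix.dotProduct_mulVec, Matrix.mulVec_mulVec, Matrix.mulVec_mulVec, Matrix.mul_assoc]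
  constructor
  · intro h
    ext i j
    have h1 := h (Pi.single i 1) (Pi.single j 1)
    rw [e, hf, show σ ∘ (Pi.single j (1 : F) : Fin n → F) = Pi.single j 1 from funext fun k => by
      simp [Pi.single_apply, apply_ite σ]] at h1
    simpa [Matrix.smul_apply] using h1
  · intro h u v
    rw [e, hf, h, Matrix.smul_mulVec, dotProduct_smul, smul_eq_mul]

theorem isUnit_gram {σ : F →+* F} (hσ : ∀ a, σ (σ a) = a) (f : (Fin n → F) → (Fin n → F) → F) (G : Mat)
    (hf : ∀ u v, f u v = u ⬝ᵥ (G *ᵥ (σ ∘ v))) (hnd : ∀ v, v ≠ 0 → ∃ x, f x v ≠ 0) : IsUnit G.det := by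
  rw [isUnit_iff_ne_zero]
  intro h
  obtain ⟨v, hv, hv'⟩ := Matrix.exists_mulVec_eq_zero_iff.mpr h
  obtain ⟨x, hx⟩ := hnd (σ ∘ v) fun h0 => hv (funext fun i => σ.injective (by
    rw [Pi.zero_apply, map_zero]; exact congrFun h0 i))
  refine hx ?_
  rw [hf, show σ ∘ σ ∘ v = v from funext fun i => hσ (v i), hv', dotProduct_zero]

theorem class_card {G : Mat} (hG : IsUnit G.det) (p q : Fin n → Prop) [DecidablePred p] [DecidablePred q]
    (h : ∀ i j, G i j ≠ 0 → (p i ↔ q j)) :
    (Finset.univ.filter p).card = (Finset.univ.filter q).card := by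
  classical
  have key : ∀ (G : Mat), IsUnit G.det → ∀ p q : Fin n → Prop, (∀ i j, G i j ≠ 0 → (p i ↔ q j)) →
      Fintype.card {i // p i} ≤ Fintype.card {j // q j} := by
    intro G hG p q h
    have hrows := Matrix.linearIndependent_rows_iff_isUnit.mpr ((Matrix.isUnit_iff_isUnit_det G).mpr hG)
    have hli : LinearIndependent F (fun (i : {i // p i}) (j : {j // q j}) => G i j) := by
      rw [Fintype.linearIndependent_iff]
      intro c hc
      have h2 := Fintype.linearIndependent_iff.mp (hrows.comp (fun i : {i // p i} => (i : Fin n)) Subtype.val_injective) c ?_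
      · exact h2
      funext j
      rw [Finset.sum_apply, Pi.zero_apply]
      by_cases hj : q j
      · have := congrFun hc ⟨j, hj⟩
        simpa using this
      · refine Finset.sum_eq_zero fun i _ => ?_
        rw [Pi.smul_apply, smul_eq_mul]
        by_cases h0 : G i j = 0
        · show c i * G i j = 0
          rw [h0, mul_zero]
        · exact absurd ((h i j h0).mp i.2) hj
    simpa using hli.fintype_card_le_finrank
  have h1 := key G hG p q h
  have h2 := key Gᵀ (by rwa [Matrix.det_transpose]) q p fun i j hij => (h j i hij).symm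
  rw [← Fintype.card_subtype, ← Fintype.card_subtype]
  simp only [← Nat.card_eq_fintype_card] at h1 h2 ⊢
  exact le_antisymm h1 h2

theorem diag_invariant [DecidableEq F] {σ : F →+* F} (hσ : ∀ a, σ (σ a) = a) {G : Mat} (hG : IsUnit G.det) {d : Fin n → F}
    {μ : F} (hμ : μ ≠ 0) (hd : ∀ i, d i ≠ 0) (h : GramSim σ G (Matrix.diagonal d) μ) {t : F} (ht : t ≠ 0) :
    (Finset.univ.filter fun j => d j = t).card = (Finset.univ.filter fun j => d j = σ (μ / t)).card := by
  refine class_card hG _ _ fun i j hij => ?_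
  have hprod : d i * σ (d j) = μ := by
    have := congrFun (congrFun h i) j
    rw [Matrix.diagonal_transpose, Matrix.diagonal_map (map_zero σ), Matrix.mul_diagonal, Matrix.diagonal_mul,
      Matrix.smul_apply, smul_eq_mul] at this
    exact mul_right_cancel₀ hij (by linear_combination this)
  constructor
  · intro hi
    rw [hi] at hprod
    rw [← hσ (d j), ← hprod, mul_div_cancel_left₀ _ ht]
  · intro hj
    rw [hj, hσ] at hprod
    field_simp at hprod
    exact hprod

/-- The twisted symmetry of an exponent vector. -/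
theorem exponent_invariant {r : ℕ} [DecidableEq F] {ζ : AddChar (ZMod r) F} (hζ : Function.Injective ζ) (hn : 0 < n)
    {s : F} (hs : s ≠ 0) (a : Fin n → ZMod r) (u : ZMod r) (κ : F)
    (h : ∀ b, (Finset.univ.filter fun j => s * ζ (a j) = s * ζ b).card =
      (Finset.univ.filter fun j => s * ζ (a j) = κ * ζ (u * b)).card) :
    ∃ e, ∀ b, (Finset.univ.filter fun j => a j = b).card = (Finset.univ.filter fun j => a j = u * b + e).card := by
  obtain ⟨j0, hj0⟩ : ∃ j0 : Fin n, j0 = ⟨0, hn⟩ := ⟨_, rfl⟩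
  have hpos : 0 < (Finset.univ.filter fun j => s * ζ (a j) = κ * ζ (u * a j0)).card := by
    rw [← h]
    exact Finset.card_pos.mpr ⟨j0, by simp⟩
  obtain ⟨j1, hj1⟩ := Finset.card_pos.mp hpos
  rw [Finset.mem_filter] at hj1
  refine ⟨a j1 - u * a j0, fun b => ?_⟩
  have h1 : κ * ζ (u * b) = s * ζ (u * b + (a j1 - u * a j0)) := by
    have hne : ζ (u * a j0) ≠ 0 := fun h0 => by
      have h2 := ζ.map_add_eq_mul (u * a j0) (-(u * a j0))
      rw [add_neg_cancel, ζ.map_zero_eq_one, h0, zero_mul] at h2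
      exact one_ne_zero h2
    refine mul_right_cancel₀ hne ?_
    rw [mul_assoc s, ← ζ.map_add_eq_mul, show u * b + (a j1 - u * a j0) + u * a j0 = a j1 + u * b by ring,
      ζ.map_add_eq_mul, ← mul_assoc s, hj1.2]
    ring
  have := h b
  simp only [h1, mul_right_inj' hs, hζ.eq_iff] at this
  exact this

/-- The exponents `(1, 1, -2, 0, …, 0)`. -/
def wvec (r k : ℕ) : Fin (3 + k) → ZMod r := Fin.append ![1, 1, -2] 0

theorem wvec_sum (r k : ℕ) : ∑ j, wvec r k j = 0 := by
  simp [wvec, Fin.sum_univ_add, Fin.sum_univ_three]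
  norm_num

theorem wvec_count (r k : ℕ) (b : ZMod r) : (Finset.univ.filter fun j => wvec r k j = b).card =
    (if (1 : ZMod r) = b then 2 else 0) + (if (-2 : ZMod r) = b then 1 else 0) + (if (0 : ZMod r) = b then k else 0) := by
  rw [Finset.card_filter, Fin.sum_univ_add]
  simp only [wvec, Fin.append_left, Fin.append_right, Fin.sum_univ_three, Pi.zero_apply, Matrix.cons_val_zero,
    Matrix.cons_val_one, Matrix.cons_val, Finset.sum_const, Finset.card_univ, Fintype.card_fin, smul_eq_mul, mul_ite,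
    mul_one, mul_zero]
  by_cases e1 : (1 : ZMod r) = b <;> by_cases e2 : (-2 : ZMod r) = b <;> by_cases e3 : (0 : ZMod r) = b <;>
    simp [e1, e2, e3]

theorem zmod_three : (-2 : ZMod 3) = 1 ∧ (1 : ZMod 3) ≠ 2 ∧ (0 : ZMod 3) ≠ 2 ∧ ∀ b : ZMod 3, b = 0 ∨ b = 1 ∨ b = 2 := by
  decide

/-- The first witness spectrum admits no twisted symmetry. -/
theorem wvec_not_invariant {r k : ℕ} [Fact r.Prime] (hr2 : r ≠ 2) (hex : (k = 0 → r ≠ 3) ∧ (k = 3 → r ≠ 3) ∧ (k = 2 → r ≠ 5))
    {u : ZMod r} (hu0 : u ≠ 0) (hu : u ≠ 1) :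
    ¬ ∃ e, ∀ b, (Finset.univ.filter fun j => wvec r k j = b).card = (Finset.univ.filter fun j => wvec r k j = u * b + e).card := by
  rintro ⟨e, he⟩
  have hr := (Fact.out : r.Prime)
  obtain ⟨m, hm⟩ : ∃ m : ZMod r → ℕ, ∀ b, m b = (if (1 : ZMod r) = b then 2 else 0) + (if (-2 : ZMod r) = b then 1 else 0) +
      (if (0 : ZMod r) = b then k else 0) := ⟨_, fun b => rfl⟩
  have hmm : ∀ b, m b = m (u * b + e) := fun b => by
    rw [hm, hm, ← wvec_count, ← wvec_count]; exact he b
  have fixed : ∀ x y, u * x + e = x → u * y + e = y → x = y := fun x y hx hy => by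
    have : (u - 1) * (x - y) = 0 := by linear_combination hx - hy
    exact sub_eq_zero.mp ((mul_eq_zero.mp this).resolve_left (sub_ne_zero.mpr hu))
  have hf : ∀ x y, u * x + e = u * y + e → x = y := fun x y h => mul_left_cancel₀ hu0 (add_right_cancel h)
  have h21 : (2 : ZMod r) ≠ 0 := fun h => by
    have h' : ((2 : ℕ) : ZMod r) = 0 := by exact_mod_cast h
    exact hr2 ((Nat.prime_dvd_prime_iff_eq hr Nat.prime_two).mp ((ZMod.natCast_eq_zero_iff _ _).mp h'))
  have h10 : (1 : ZMod r) ≠ 0 := one_ne_zero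
  have h20 : (-2 : ZMod r) ≠ 0 := neg_ne_zero.mpr h21
  by_cases hr3 : r = 3
  · subst hr3
    obtain ⟨h, h12', h02', hall⟩ := zmod_three
    have hk0 : k ≠ 0 := fun h0 => hex.1 h0 rfl
    have hk3 : k ≠ 3 := fun h0 => hex.2.1 h0 rfl
    have m1 : m 1 = 3 := by simp [hm, h]
    have m0 : m 0 = k := by rw [hm, h, if_neg h10, if_neg h10, if_pos rfl]; omega
    have m2 : m 2 = 0 := by rw [hm, h, if_neg h12', if_neg h12', if_neg h02']
    have e0 : u * 0 + e = 0 := by
      rcases hall (u * 0 + e) with h' | h' | h'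
      · exact h'
      all_goals
        have := hmm 0
        rw [h'] at this
        omega
    have e2 : u * 2 + e = 2 := by
      rcases hall (u * 2 + e) with h' | h' | h'
      · have := hmm 2; rw [h'] at this; omega
      · have := hmm 2; rw [h'] at this; omega
      · exact h'
    exact h02' (fixed 0 2 e0 e2)
  have h12 : (-2 : ZMod r) ≠ 1 := fun h => by
    have : ((3 : ℕ) : ZMod r) = 0 := by push_cast; linear_combination -h
    exact hr3 ((Nat.prime_dvd_prime_iff_eq hr Nat.prime_three).mp ((ZMod.natCast_eq_zero_iff _ _).mp this))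
  have m1 : m 1 = 2 := by rw [hm, if_pos rfl, if_neg h12, if_neg (Ne.symm h10)]
  have m2 : m (-2) = 1 := by rw [hm, if_neg h12.symm, if_pos rfl, if_neg (Ne.symm h20)]
  have m0 : m 0 = k := by rw [hm, if_neg h10, if_neg h20, if_pos rfl]; omega
  have mo : ∀ b, b ≠ 1 → b ≠ -2 → b ≠ 0 → m b = 0 := fun b a1 a2 a3 => by
    rw [hm, if_neg (Ne.symm a1), if_neg (Ne.symm a2), if_neg (Ne.symm a3)]
  have img : ∀ b, m b ≠ 0 → u * b + e = 1 ∨ u * b + e = -2 ∨ u * b + e = 0 := fun b hb => by
    by_contra hne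
    push Not at hne
    exact hb ((hmm b).trans (mo _ hne.1 hne.2.1 hne.2.2))
  have i1 := img 1 (by omega)
  have i2 := img (-2) (by omega)
  have x1 := hmm 1
  have x2 := hmm (-2)
  rcases i1 with a | a | a
  · rcases i2 with b | b | b
    · exact h12 (hf _ _ (b.trans a.symm))
    · exact h12 (fixed _ _ b a)
    · rw [b, m2, m0] at x2
      rcases img 0 (by omega) with c | c | c
      · exact h10 (hf _ _ (a.trans c.symm))
      · have h8 : (2 : ZMod r) ^ 3 = 0 := by linear_combination (3 : ZMod r) * c - (2 : ZMod r) * a - b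
        exact h21 (pow_eq_zero_iff (by norm_num) |>.mp h8)
      · exact h20 (hf _ _ (b.trans c.symm))
  · rw [a, m1, m2] at x1
    omega
  · rw [a, m1, m0] at x1
    rcases i2 with b | b | b
    · rw [b, m2, m1] at x2
      omega
    · rcases img 0 (by omega) with c | c | c
      · refine hex.2.2 x1.symm ((Nat.prime_dvd_prime_iff_eq hr Nat.prime_five).mp ((ZMod.natCast_eq_zero_iff _ _).mp ?_))
        push_cast
        linear_combination (2 : ZMod r) * a - (3 : ZMod r) * c + b
      · exact h20 (hf _ _ (b.trans c.symm))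
      · exact h10 (hf _ _ (a.trans c.symm))
    · exact h12 (hf _ _ (b.trans a.symm))

/-- Conjugacy by a matrix of determinant one of semisimple matrices with equal characteristic polynomials. -/
theorem conj_core [Finite F] (hn : 0 < n) {m : ℕ} (hm : (m : F) ≠ 0) {x Y : Mat} (hx : x ^ m = 1) (hY : Y ^ m = 1)
    (hc : x.charpoly = Y.charpoly) : ∃ P : Mat, P.det = 1 ∧ x * P = P * Y := by
  have hord : ∀ Z : Mat, Z ^ m = 1 → (Matrix.toLinAlgEquiv' Z) ^ m = 1 := fun Z hZ => by rw [← map_pow, hZ, map_one]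
  obtain ⟨E, hE⟩ := Cfsg.Agent.H29.Semisimple.similar n (Matrix.toLinAlgEquiv' Y)
    (Matrix.toLinAlgEquiv' x) hm (hord _ hY) (hord _ hx) (Module.finrank_fin_fun F) (by
      show LinearMap.charpoly (Matrix.toLin' Y) = LinearMap.charpoly (Matrix.toLin' x)
      rw [Matrix.charpoly_toLin', Matrix.charpoly_toLin', hc])
  obtain ⟨Q, hQdef⟩ : ∃ Q, Q = LinearMap.toMatrix' (E : (Fin n → F) →ₗ[F] (Fin n → F)) := ⟨_, rfl⟩
  have hQ : ∀ v, Q *ᵥ v = E v := fun v => by rw [hQdef, LinearMap.toMatrix'_mulVec]; rfl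
  have hQu : IsUnit Q.det := by rw [hQdef, LinearMap.det_toMatrix']; exact LinearEquiv.isUnit_det' E
  have hxQ : x * Q = Q * Y := Matrix.ext_of_mulVec_single fun j => by
    rw [← Matrix.mulVec_mulVec, ← Matrix.mulVec_mulVec, hQ, hQ, ← Matrix.toLinAlgEquiv'_apply, ← hE,
      Matrix.toLinAlgEquiv'_apply]
  obtain ⟨C, hC, hCdet⟩ := Cfsg.Agent.H29.Semisimple.exists_commute_det (Matrix.toLinAlgEquiv' Y) hm
    (hord _ hY) (by rw [Module.finrank_fin_fun]; exact hn) (inv_ne_zero hQu.ne_zero)
  have hCY : LinearMap.toMatrix' C * Y = Y * LinearMap.toMatrix' C := by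
    apply Matrix.toLinAlgEquiv'.injective
    rw [map_mul, map_mul, show Matrix.toLinAlgEquiv' (LinearMap.toMatrix' C) = C from Matrix.toLin'_toMatrix' C]
    exact hC
  refine ⟨Q * LinearMap.toMatrix' C, ?_, ?_⟩
  · rw [Matrix.det_mul, LinearMap.det_toMatrix', hCdet, mul_inv_cancel₀ hQu.ne_zero]
  · rw [← Matrix.mul_assoc, hxQ, Matrix.mul_assoc Q, ← hCY, Matrix.mul_assoc]

variable [Fintype F] {p r : ℕ} [Fact p.Prime] [CharP F p] [hr : Fact r.Prime]

omit [CharP F p] in
theorem exists_char (hrq : r ∣ Fintype.card F - 1) : ∃ ζ : AddChar (ZMod r) F, Function.Injective ζ := by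
  classical
  obtain ⟨g, hg⟩ := exists_prime_orderOf_dvd_card r (G := Fˣ) (by rw [Fintype.card_units]; exact hrq)
  have hz : (g : F) ^ r = 1 := by rw [← Units.val_pow_eq_pow_val, ← hg, pow_orderOf_eq_one, Units.val_one]
  refine ⟨AddChar.zmodChar r hz, fun a b h => ?_⟩
  rw [AddChar.zmodChar_apply, AddChar.zmodChar_apply, ← Units.val_pow_eq_pow_val, ← Units.val_pow_eq_pow_val] at h
  exact ZMod.val_injective r (pow_injOn_Iio_orderOf (by rw [hg]; exact ZMod.val_lt a) (by rw [hg]; exact ZMod.val_lt b)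
    (Units.ext h))

/-- An element whose non-trivial eigenvalues form a single Frobenius orbit. -/
theorem exists_orbit_witness (hrp : r ≠ p) (hi : 2 ≤ orderOf (Fintype.card F : ZMod r))
    (hin : orderOf (Fintype.card F : ZMod r) ≤ n) :
    ∃ x : Mat, x.det = 1 ∧ x ^ r = 1 ∧ (∀ c : F, x ≠ c • (1 : Mat)) ∧
      ∃ (P : F[X]) (_ : Fact (Irreducible P)), orderOf (AdjoinRoot.root P) = r ∧
        (x.map (AdjoinRoot.of P)).charpoly.IsRoot (AdjoinRoot.root P) ∧
        ∀ e : ℕ, (e : ZMod r) ≠ 0 → (x.map (AdjoinRoot.of P)).charpoly.IsRoot (AdjoinRoot.root P ^ e) →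
          ∃ j : ℕ, (e : ZMod r) = (Fintype.card F : ZMod r) ^ j := by
  classical
  obtain ⟨i, hidef⟩ : ∃ i, i = orderOf (Fintype.card F : ZMod r) := ⟨_, rfl⟩
  rw [← hidef] at hi hin
  obtain ⟨S, hS1, -, hS3, hS4⟩ := CfsgLib.PrimeClasses.exists_factors (F := F) hr.out hrp
  rw [← hidef] at hS4
  have hi2 : i ∣ r - 1 := by
    rw [hidef]
    refine orderOf_dvd_of_pow_eq_one (ZMod.pow_card_sub_one_eq_one fun h0 => ?_)
    rw [hidef, h0, orderOf_zero] at hi
    omega
  obtain ⟨P, hP⟩ : S.Nonempty := Finset.card_pos.mp (by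
    rw [hS4]
    exact Nat.div_pos (Nat.le_of_dvd (by have := hr.out.two_le; omega) hi2) (by omega))
  obtain ⟨hPm, hPi, hPd, hP1⟩ := hS1 P hP
  rw [← hidef] at hPd
  haveI hPf : Fact (Irreducible P) := ⟨hPi⟩
  have hP0 : ∀ c : F, P ≠ X - C c := fun c h => by
    have := congrArg natDegree h
    rw [hPd, natDegree_X_sub_C] at this
    omega
  have hP00 : P.eval 0 ≠ 0 := fun h => hP0 0 (eq_of_monic_of_associated hPm (monic_X_sub_C 0)
    ((irreducible_X_sub_C 0).associated_of_dvd hPi (dvd_iff_isRoot.mpr h)).symm)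
  obtain ⟨g, hg, hgc⟩ := Cfsg.Agent.H29.Semisimple.exists_matrix (n := n) p (P * (X - C 1) ^ (n - i))
    (hPm.mul ((monic_X_sub_C 1).pow _)) (by
      rw [hPm.natDegree_mul ((monic_X_sub_C 1).pow _), natDegree_pow, natDegree_X_sub_C, hPd]; omega) (by
      rw [eval_mul, eval_pow, eval_sub, eval_X, eval_C, zero_sub]
      exact mul_ne_zero hP00 (pow_ne_zero _ (neg_ne_zero.mpr one_ne_zero)))
  have hrF : (r : F) ≠ 0 := r_ne_zero hrp
  have hgr : g ^ r = 1 := by
    refine CfsgLib.PrimeClasses.pow_eq_one_of_factors (p := p) hrF g hg fun R hR hd => ?_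
    rw [hgc] at hd
    rcases hR.prime.dvd_or_dvd hd with h | h
    · exact (hR.associated_of_dvd hPi h).dvd.trans (hS3 P hP)
    · exact (hR.associated_of_dvd (irreducible_X_sub_C 1) (hR.prime.dvd_of_dvd_pow h)).dvd.trans
        (by rw [C_1]; exact sub_one_dvd_pow_sub_one X r)
  have hxr : (g : Mat) ^ r = 1 := by rw [← Units.val_pow_eq_pow_val, hgr, Units.val_one]
  have hdet : (g : Mat).det = 1 := by
    set u : Fˣ := Matrix.GeneralLinearGroup.det g with hu
    have h1 : orderOf u ∣ r := orderOf_dvd_of_pow_eq_one (by rw [hu, ← map_pow, hgr, map_one])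
    have h2 : u = 1 := orderOf_eq_one_iff.mp (((Nat.dvd_prime hr.out).mp h1).resolve_right fun h => by
      have h3 := orderOf_dvd_natCard u
      rw [h, Nat.card_units, Nat.card_eq_fintype_card] at h3
      have := r_dvd_sub_iff.mp h3
      omega)
    have := congrArg Units.val h2
    rwa [hu, Matrix.GeneralLinearGroup.val_det_apply, Units.val_one] at this
  set α := AdjoinRoot.root P with hα
  have hPα : (P.map (AdjoinRoot.of P)).IsRoot α := by
    rw [hα, IsRoot, eval_map, AdjoinRoot.eval₂_root]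
  have hαr : orderOf α = r := by
    refine orderOf_eq_prime ?_ ?_
    · obtain ⟨R, hR⟩ := hS3 P hP
      have := congrArg (Polynomial.eval₂ (AdjoinRoot.of P) α) hR
      rw [eval₂_sub, eval₂_X_pow, eval₂_one, eval₂_mul, hα, AdjoinRoot.eval₂_root, zero_mul, sub_eq_zero] at this
      exact this
    · intro h1
      refine hP1 (eq_of_monic_of_associated hPm (monic_X_sub_C 1) (hPi.associated_of_dvd (irreducible_X_sub_C 1) ?_))
      rw [← AdjoinRoot.mk_eq_zero, map_sub, AdjoinRoot.mk_X, AdjoinRoot.mk_C, ← hα, h1, map_one, sub_self]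
  have hcp : ((g : Mat).map (AdjoinRoot.of P)).charpoly =
      P.map (AdjoinRoot.of P) * (X - C 1) ^ (n - i) := by
    rw [Matrix.charpoly_map, hgc, Polynomial.map_mul, Polynomial.map_pow, Polynomial.map_sub, map_X, map_C, map_one]
  refine ⟨(g : Mat), hdet, hxr, fun c hc => ?_, P, hPf, hαr, ?_, ?_⟩
  · have h1 : P ∣ (g : Mat).charpoly := hgc ▸ dvd_mul_right _ _
    rw [hc, Matrix.smul_one_eq_diagonal, Matrix.charpoly_diagonal, Finset.prod_const] at h1
    exact hP0 c (eq_of_monic_of_associated hPm (monic_X_sub_C c)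
      (hPi.associated_of_dvd (irreducible_X_sub_C c) (hPi.prime.dvd_of_dvd_pow h1)))
  · rw [hcp]
    exact root_mul.mpr (Or.inl hPα)
  · intro e he hroot
    rw [hcp, root_mul] at hroot
    have hne : α ^ e ≠ 1 := fun h => he (by
      rw [ZMod.natCast_eq_zero_iff, ← hαr]; exact orderOf_dvd_of_pow_eq_one h)
    have hroot' : (P.map (AdjoinRoot.of P)).IsRoot (α ^ e) := hroot.resolve_right fun h => hne (by
      rw [IsRoot, eval_pow, eval_sub, eval_X, eval_C] at h
      exact sub_eq_zero.mp (pow_eq_zero_iff'.mp h).1)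
    have hne0 : P.map (AdjoinRoot.of P) ≠ 0 := (hPm.map _).ne_zero
    have hfrob : ∀ j : ℕ, (P.map (AdjoinRoot.of P)).IsRoot (α ^ Fintype.card F ^ j) := by
      intro j
      induction j with
      | zero => simpa using hPα
      | succ j ih =>
        obtain ⟨f, -, hf⟩ := FiniteField.card F p
        haveI : CharP (AdjoinRoot P) p := charP_of_injective_ringHom (AdjoinRoot.of P).injective p
        haveI : ExpChar (AdjoinRoot P) p := ExpChar.prime Fact.out
        have hφ : ∀ z : AdjoinRoot P, iterateFrobenius (AdjoinRoot P) p f z = z ^ Fintype.card F := fun z => by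
          rw [iterateFrobenius_def, hf]
        have hcomp : (iterateFrobenius (AdjoinRoot P) p f).comp (AdjoinRoot.of P) = AdjoinRoot.of P := by
          refine RingHom.ext fun a => ?_
          rw [RingHom.comp_apply, hφ, ← map_pow, FiniteField.pow_card]
        have := congrArg (iterateFrobenius (AdjoinRoot P) p f) ih
        rw [eval_map, hom_eval₂, hcomp, hφ, ← pow_mul, ← pow_succ, map_zero] at this
        rw [IsRoot, eval_map]
        exact this
    have hcast : ∀ a b : ℕ, α ^ a = α ^ b → (a : ZMod r) = b := fun a b h => by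
      rw [ZMod.natCast_eq_natCast_iff, ← hαr]
      have hα0 : IsOfFinOrder α := by rw [← orderOf_pos_iff, hαr]; exact hr.out.pos
      exact hα0.pow_eq_pow_iff_modEq.mp h
    obtain ⟨R, hR⟩ : ∃ R, R = (Finset.range i).image fun j => α ^ Fintype.card F ^ j := ⟨_, rfl⟩
    have hcardR : R.card = i := by
      rw [hR, Finset.card_image_of_injOn, Finset.card_range]
      intro a ha b hb hab
      rw [Finset.coe_range, Set.mem_Iio] at ha hb
      have := hcast _ _ hab
      push_cast at this
      exact pow_injOn_Iio_orderOf (by rwa [Set.mem_Iio, ← hidef]) (by rwa [Set.mem_Iio, ← hidef]) this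
    have hsub : insert (α ^ e) R ⊆ (P.map (AdjoinRoot.of P)).roots.toFinset := by
      intro z hz
      rw [Multiset.mem_toFinset, mem_roots hne0]
      rcases Finset.mem_insert.mp hz with rfl | hz
      · exact hroot'
      · rw [hR] at hz
        obtain ⟨j, -, rfl⟩ := Finset.mem_image.mp hz
        exact hfrob j
    have hle := (Finset.card_le_card hsub).trans ((Multiset.toFinset_card_le _).trans (card_roots' _))
    rw [natDegree_map, hPd] at hle
    have hmem : α ^ e ∈ R := by
      by_contra hne'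
      rw [Finset.card_insert_of_notMem hne', hcardR] at hle
      omega
    rw [hR] at hmem
    obtain ⟨j, -, hj⟩ := Finset.mem_image.mp hmem
    exact ⟨j, by have := hcast _ _ hj.symm; push_cast at this; exact this⟩

omit [CharP F p] in
/-- Spectra of elements of order `r` when `r` divides `q - 1`. -/
theorem split_charpoly {ζ : AddChar (ZMod r) F} (hζ : Function.Injective ζ) {M : Mat} (hM : M ^ r = 1) :
    ∃ a : Fin n → ZMod r, M.charpoly = ∏ j, (X - C (ζ (a j))) := by
  classical
  have hroots : ∀ b : ZMod r, ζ b ^ r = 1 := fun b => by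
    rw [← ζ.map_nsmul_eq_pow, CharP.cast_eq_zero (ZMod r) r |> fun h => (by rw [nsmul_eq_mul, h, zero_mul] : r • b = 0),
      ζ.map_zero_eq_one]
  have hprod : (X ^ r - 1 : F[X]) = ∏ b : ZMod r, (X - C (ζ b)) := by
    refine (eq_of_monic_of_dvd_of_natDegree_le (monic_prod_of_monic _ _ fun b _ => monic_X_sub_C _)
      (monic_X_pow_sub_C (1 : F) hr.out.ne_zero |> fun h => by rwa [C_1] at h) ?_ ?_)
    · refine Finset.prod_dvd_of_isRelPrime ?_ fun b _ => ?_
      · intro a _ b _ hab
        exact ((isCoprime_X_sub_C_of_isUnit_sub (sub_ne_zero.mpr fun h => hab (hζ h)).isUnit)).isRelPrime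
      · rw [dvd_iff_isRoot, IsRoot, eval_sub, eval_pow, eval_X, eval_one, hroots, sub_self]
    · rw [natDegree_prod_of_monic _ _ fun b _ => monic_X_sub_C _]
      simp only [natDegree_X_sub_C, Finset.sum_const, Finset.card_univ, ZMod.card, smul_eq_mul, mul_one]
      rw [← C_1, natDegree_X_pow_sub_C]
  obtain ⟨s, hs⟩ : ∃ s, s = UniqueFactorizationMonoid.normalizedFactors M.charpoly := ⟨_, rfl⟩
  obtain ⟨hmem, hsp⟩ := nf_spec (Matrix.charpoly_monic M)
  have hlin : ∀ P ∈ s, ∃ b, P = X - C (ζ b) := by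
    intro P hP
    obtain ⟨hi, hm, hd⟩ := hmem P (hs ▸ hP)
    have := CfsgLib.PrimeClasses.factor_dvd M hM hi hd
    rw [hprod] at this
    obtain ⟨b, -, hb⟩ := (hi.prime.dvd_finsetProd_iff _).mp this
    exact ⟨b, eq_of_monic_of_associated hm (monic_X_sub_C _) (hi.associated_of_dvd (irreducible_X_sub_C _) hb)⟩
  choose b hb using hlin
  obtain ⟨l, hl⟩ : ∃ l : List (ZMod r), (l : Multiset (ZMod r)) = s.attach.map fun P => b P.1 P.2 := ⟨_, Multiset.coe_toList _⟩
  have hprod2 : M.charpoly = ((l : Multiset (ZMod r)).map fun c => X - C (ζ c)).prod := by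
    rw [hl, Multiset.map_map]
    conv_lhs => rw [← hsp, ← hs, ← Multiset.attach_map_val s]
    congr 1
    exact Multiset.map_congr rfl fun P _ => hb P.1 P.2
  have hlen : l.length = n := by
    have := congrArg natDegree hprod2
    rw [Matrix.charpoly_natDegree_eq_dim, Fintype.card_fin, natDegree_multiset_prod_of_monic _ (by
      intro P hP; obtain ⟨c, -, rfl⟩ := Multiset.mem_map.mp hP; exact monic_X_sub_C _)] at this
    simp only [Multiset.map_map, Function.comp_def, natDegree_X_sub_C, Multiset.map_const', Multiset.sum_replicate,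
      smul_eq_mul, mul_one, Multiset.coe_card] at this
    exact this.symm
  subst hlen
  refine ⟨l.get, ?_⟩
  rw [hprod2, Multiset.map_coe, Multiset.prod_coe, ← List.prod_ofFn]
  conv_lhs => rw [← List.ofFn_get l]
  rw [List.map_ofFn]
  rfl

end CfsgLib.SubElusive
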